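import Cfsg.Agent.H36.NilPPrime.Embedded
import Cfsg.Agent.Hall.MinimalNormal

/-!
The group induced on `A` by the strongly embedded subgroup has prime order `p = |A| - 1`.
-/

set_option autoImplicit false

namespace Cfsg.Agent.H36.NilPPrime

open Subgroup MulAction

universe u

local instance : Fact (Nat.Prime 2) := ⟨Nat.prime_two⟩

theorem exponent_eq_one {p m k : ℕ} (hp : p.Prime) (hp2 : p ≠ 2) (hm : 2 ≤ m)
    (h : 2 ^ m = p ^ k + 1) : k = 1 := by
  obtain ⟨j, hj⟩ : Odd p := hp.odd_of_ne_two hp2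
  rcases Nat.even_or_odd k with ⟨l, hl⟩ | hk
  · exfalso
    obtain ⟨n, hn⟩ : Odd (p ^ l) := Odd.pow ⟨j, hj⟩
    have h4 : 4 ∣ 2 ^ m := (show 4 = 2 ^ 2 from rfl) ▸ pow_dvd_pow 2 hm
    have hsq : p ^ k + 1 = 4 * (n * n + n) + 2 := by
      rw [hl, pow_add, hn]; ring
    rw [h, hsq] at h4
    omega
  have hdvd : p + 1 ∣ 2 ^ m := by
    rw [h]
    simpa using Odd.nat_add_dvd_pow_add_pow p 1 hk
  obtain ⟨i, hi, hpi⟩ := (Nat.dvd_prime_pow Nat.prime_two).mp hdvd
  have hi1 : 1 ≤ i := by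
    by_contra hh
    have : i = 0 := by omega
    subst this
    have := hp.two_le
    simp at hpi
    omega
  rcases eq_or_lt_of_le hi with rfl | hlt
  · have : p ^ k = p ^ 1 := by rw [pow_one]; omega
    exact Nat.pow_right_injective hp.two_le this
  exfalso
  set x : ℤ := 2 ^ i with hx
  have hpx : (p : ℤ) = x - 1 := by
    have : ((p + 1 : ℕ) : ℤ) = ((2 ^ i : ℕ) : ℤ) := by rw [hpi]
    push_cast at this
    rw [hx]; linarith
  have hexp : ∀ n : ℕ, ∃ c : ℤ, (x - 1) ^ n = (-1) ^ n * (1 - n * x) + c * x ^ 2 := by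
    intro n
    induction n with
    | zero => exact ⟨0, by simp⟩
    | succ n ih =>
      obtain ⟨c, hc⟩ := ih
      exact ⟨c * (x - 1) + (-1) ^ n * (-(n : ℤ)), by rw [pow_succ, hc, pow_succ]; push_cast; ring⟩
  obtain ⟨c, hc⟩ := hexp k
  have h2 : (2 : ℤ) ^ m = (p : ℤ) ^ k + 1 := by exact_mod_cast h
  rw [hpx, hc, hk.neg_one_pow] at h2
  obtain ⟨d, hd⟩ : ∃ d, m = i + 1 + d := ⟨m - (i + 1), by omega⟩
  have h3 : (k : ℤ) = 2 * 2 ^ d - c * x := by
    refine mul_left_cancel₀ (show x ≠ 0 from pow_ne_zero _ two_ne_zero) ?_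
    have : (2 : ℤ) ^ m = x * (2 * 2 ^ d) := by rw [hd, hx, pow_add, pow_succ]; ring
    rw [this] at h2
    linear_combination -h2
  obtain ⟨i', rfl⟩ : ∃ i', i = i' + 1 := ⟨i - 1, by omega⟩
  obtain ⟨l, hl⟩ := hk
  have h5 : (2 : ℤ) ∣ k := ⟨2 ^ d - c * 2 ^ i', by rw [h3, hx, pow_succ]; ring⟩
  obtain ⟨e, he⟩ := h5
  rw [hl] at he
  push_cast at he
  omega

/-- a solvable transitive `{2,p}`-group of degree `p` in which involutions fix at least two of the
points, if any, is regular -/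
theorem card_eq_of_transitive {α : Type*} [Finite α] {Γ : Subgroup (Equiv.Perm α)} {p : ℕ}
    [hp : Fact p.Prime] (hp2 : p ≠ 2) [Group.IsSolvable Γ] [IsPretransitive Γ α]
    (hα : Nat.card α = p)
    (hprimes : ∀ x ∈ Γ, ∀ r : ℕ, r.Prime → orderOf x = r → r = 2 ∨ r = p)
    (hfix : ∀ x ∈ Γ, orderOf x = 2 → ∀ a, x a = a → ∃ b, b ≠ a ∧ x b = b) : Nat.card Γ = p := by
  have : Nonempty α := (Nat.card_ne_zero.mp (hα ▸ hp.out.ne_zero)).1
  obtain ⟨a⟩ := this
  have hst : (stabilizer Γ a).index = p := by rw [index_stabilizer_of_transitive, hα]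
  suffices hbot : stabilizer Γ a = ⊥ by rwa [hbot, index_bot] at hst
  have : Nontrivial Γ := Finite.one_lt_card_iff_nontrivial.mp (by
    rw [← (stabilizer Γ a).card_mul_index, hst]
    exact lt_of_lt_of_le hp.out.one_lt (Nat.le_mul_of_pos_left _ Nat.card_pos))
  obtain ⟨N, q, hNn, hN, -, -, hNc, -⟩ := Hall.exists_minimal_normal_pgroup (G := Γ)
  have : IsPreprimitive Γ α := IsPreprimitive.of_prime_card (hα ▸ hp.out)
  have hNX : fixedPoints N α ≠ Set.univ := by
    intro h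
    refine hN ((eq_bot_iff_forall N).mpr fun n hn => Subtype.ext (Equiv.ext fun b => ?_))
    have := h.ge (Set.mem_univ b)
    exact this ⟨n, hn⟩
  have : IsPretransitive N α := IsQuasiPreprimitive.isPretransitive_of_normal hNX
  have hreg : ∀ n ∈ N, ∀ b, (n : Equiv.Perm α) b = b → n = 1 := by
    intro n hn b hb
    refine Subtype.ext (Equiv.ext fun c => ?_)
    obtain ⟨⟨k, hk⟩, rfl⟩ := exists_smul_eq N b c
    have h1 : n * k = k * n := congrArg Subtype.val (hNc.1.comm ⟨n, hn⟩ ⟨k, hk⟩)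
    show ((n : Equiv.Perm α) * (k : Equiv.Perm α)) b = (k : Equiv.Perm α) b
    rw [show (n : Equiv.Perm α) * (k : Equiv.Perm α) = (k : Equiv.Perm α) * (n : Equiv.Perm α) from
      congrArg Subtype.val h1, Equiv.Perm.mul_apply, hb]
  have hNcard : Nat.card N = p := by
    rw [← hα]
    refine Nat.card_congr (Equiv.ofBijective (fun n : N => n • a) ⟨fun n k h => ?_, fun b =>
      exists_smul_eq N a b⟩)
    have h1 : (((k⁻¹ * n : N) : Γ) : Equiv.Perm α) a = a := by
      change n • a = k • a at h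
      show (k⁻¹ * n) • a = a
      rw [mul_smul, h, inv_smul_smul]
    have := hreg _ (k⁻¹ * n).2 a h1
    exact (inv_mul_eq_one.mp (Subtype.ext this)).symm
  by_contra hne
  obtain ⟨r, hr, hrd⟩ := Nat.exists_prime_and_dvd (n := Nat.card (stabilizer Γ a))
    (fun h => hne (Subgroup.card_eq_one.mp h))
  have : Fact r.Prime := ⟨hr⟩
  obtain ⟨⟨x, hxa⟩, hx⟩ := exists_prime_orderOf_dvd_card' r hrd
  rw [Subgroup.orderOf_mk, ← Subgroup.orderOf_coe] at hx
  have hxa : (x : Equiv.Perm α) a = a := hxa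
  rcases hprimes x x.2 r hr hx with rfl | rfl
  swap
  · have h1 : Nat.card (stabilizer Γ a) * r ∣ r.factorial := by
      have h2 := card_subgroup_dvd_card Γ
      rwa [Nat.card_perm, hα, ← (stabilizer Γ a).card_mul_index, hst] at h2
    obtain ⟨n, hn⟩ : ∃ n, r = n + 1 := ⟨r - 1, by have := hr.one_lt; omega⟩
    have h3 : r ∣ n.factorial := by
      have h2 := (mul_dvd_mul_right hrd r).trans h1
      nth_rw 3 [hn] at h2
      rw [Nat.factorial_succ, ← hn] at h2
      exact (Nat.mul_dvd_mul_iff_left hr.pos).mp h2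
    have := (hr.dvd_factorial).mp h3
    omega
  have hxx : x * x = 1 := Subtype.ext (H39.mul_self_of_orderOf_eq_two hx)
  have hinv : ∀ n ∈ N, x * n * x⁻¹ = n⁻¹ := by
    intro n hn
    by_contra hne'
    set w := n * (x * n * x⁻¹) with hw
    have hxn : x * n * x⁻¹ ∈ N := hNn.conj_mem n hn x
    have hwN : w ∈ N := N.mul_mem hn hxn
    have hw1 : w ≠ 1 := fun h => hne' (eq_inv_of_mul_eq_one_right h)
    have hwx : x * w * x⁻¹ = w := by
      have h1 : n * (x * n * x⁻¹) = (x * n * x⁻¹) * n :=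
        congrArg Subtype.val (hNc.1.comm ⟨n, hn⟩ ⟨_, hxn⟩)
      calc x * w * x⁻¹ = x * n * x⁻¹ * ((x * x) * n * (x * x)⁻¹) := by rw [hw]; group
        _ = w := by rw [hxx, hw, h1]; group
    -- `w` generates `N`, so `x` centralises `N`
    have hgen : zpowers (⟨w, hwN⟩ : N) = ⊤ :=
      zpowers_eq_top_of_prime_card hNcard (fun h => hw1 (congrArg Subtype.val h))
    have hall : (x : Equiv.Perm α) = 1 := by
      refine Equiv.ext fun b => ?_
      obtain ⟨k, rfl⟩ := exists_smul_eq N a b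
      obtain ⟨z, hz⟩ := mem_zpowers_iff.mp (hgen.ge (mem_top k))
      have hxk : x * (k : Γ) = (k : Γ) * x := by
        rw [← hz, Subgroup.coe_zpow]
        exact ((show Commute x w from mul_inv_eq_iff_eq_mul.mp hwx).zpow_right z).eq
      show ((x : Equiv.Perm α) * ((k : Γ) : Equiv.Perm α)) a = ((k : Γ) : Equiv.Perm α) a
      rw [show (x : Equiv.Perm α) * ((k : Γ) : Equiv.Perm α) = ((k : Γ) : Equiv.Perm α) * x from
        congrArg Subtype.val hxk, Equiv.Perm.mul_apply, hxa]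
    rw [hall, orderOf_one] at hx
    omega
  obtain ⟨b, hba, hb⟩ := hfix x x.2 hx a hxa
  obtain ⟨⟨n, hn⟩, rfl⟩ := exists_smul_eq N a b
  have h1 : (x : Equiv.Perm α) ((n : Equiv.Perm α) a) = ((n⁻¹ : Γ) : Equiv.Perm α) a := by
    have h2 : (x : Equiv.Perm α) * n = ((n⁻¹ : Γ) : Equiv.Perm α) * x :=
      congrArg Subtype.val (mul_inv_eq_iff_eq_mul.mp (hinv n hn))
    rw [← Equiv.Perm.mul_apply, h2, Equiv.Perm.mul_apply, hxa]
  have h3 : ((n * n : Γ) : Equiv.Perm α) a = a := by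
    show (n : Equiv.Perm α) ((n : Equiv.Perm α) a) = a
    have hb' : (x : Equiv.Perm α) ((n : Equiv.Perm α) a) = (n : Equiv.Perm α) a := hb
    rw [← hb', h1]
    simp
  have h4 := hreg (n * n) (N.mul_mem hn hn) a h3
  have h5 : orderOf (⟨n, hn⟩ : N) ∣ 2 :=
    orderOf_dvd_of_pow_eq_one (Subtype.ext (by rw [pow_two]; exact h4))
  have h6 : orderOf (⟨n, hn⟩ : N) ∣ p := hNcard ▸ orderOf_dvd_natCard _
  have h7 : (⟨n, hn⟩ : N) = 1 := orderOf_eq_one_iff.mp (Nat.eq_one_of_dvd_coprimes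
    ((Nat.coprime_primes Nat.prime_two hp.out).mpr (Ne.symm hp2)) h5 h6)
  exact hba (by rw [h7, one_smul])

variable {p : ℕ} {G : Type u} [Group G] [Finite G] {S : Sylow 2 G} {A M : Subgroup G}

/-- `M` acts on `A O(M) / O(M)` as a group of order `p = |A| - 1` -/
theorem Over.exists_kernel (hA : Closed8 S A) (hM : Over A M) (hm : Min p G) [hp : Fact p.Prime] :
    Nat.card A = p + 1 ∧ ∃ K : Subgroup M, K.Normal ∧ K.index = p ∧ commutator M ≤ K ∧
      (∀ y : M, ∀ a ∈ A, a ≠ 1 → Commute (y : G) a → y ∈ K) ∧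
      (∀ y ∈ K, ∀ a : M, (a : G) ∈ A → y * a * y⁻¹ * a⁻¹ ∈ Cfsg.oddCore M) := by
  classical
  have hAM : A ≤ M := Over.A_le hA hM
  have hsol : Group.IsSolvable M := hm.solvable_of_ne_top M hM.ne_top
  set O := Cfsg.oddCore M with hO
  set π := QuotientGroup.mk' O with hπ
  set B := (A.subgroupOf M).map π with hB
  have hsurj : Function.Surjective π := QuotientGroup.mk'_surjective O
  have hπ1 : ∀ x : M, π x = 1 ↔ x ∈ O := fun x => QuotientGroup.eq_one_iff x
  have hinj : ∀ x : M, (x : G) ∈ A → x ∈ O → x = 1 := fun x hx hxO => by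
    have := Cores.disjoint_of_isPGroup_of_coprime (B := O)
      ((elem_isPGroup hA.elem).comap_subtype (K := M)) Cores.coprime_card_pPrimeCore
    exact Subgroup.mem_bot.mp (this ▸ ⟨hx, hxO⟩)
  have hBn : B.Normal := by
    refine ⟨fun b hb z => ?_⟩
    obtain ⟨m, rfl⟩ := hsurj z
    obtain ⟨c, hc, rfl⟩ := hb
    obtain ⟨_, ⟨o, ho, rfl⟩, n, hn, hnM, hmn⟩ := factor_of_strongly_closed hsol
      (S.subtype (Over.sylow_le hA hM)) hAM (fun b hb => hA.le_S hb)
      (fun x hx y hy => elem_comm hA.elem hx hy)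
      (fun b hb x hx => hA.closed b hb x hx) m.2
    obtain rfl : m = o * ⟨n, hnM⟩ := Subtype.ext hmn
    refine ⟨⟨n, hnM⟩ * c * ⟨n, hnM⟩⁻¹, conj_mem_of_mem_normalizer hn hc, ?_⟩
    simp only [map_mul, map_inv, (hπ1 o).mpr ho, one_mul]
  have hBcard : Nat.card B = Nat.card A := by
    rw [hB, Hall.card_map_mk'_eq O, Nat.card_congr (subgroupOfEquivOfLe hAM).toEquiv]
    exact (eq_bot_iff_forall _).mpr fun x hx => hinj x hx.2 hx.1
  have hBexp : ∀ b : B, b * b = 1 := by
    rintro ⟨_, c, hc, rfl⟩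
    refine Subtype.ext ?_
    show π c * π c = 1
    rw [← map_mul, ← pow_two, show c ^ 2 = 1 from Subtype.ext (hA.elem.2 _ hc), map_one]
  have hBcomm : ∀ b c : B, b * c = c * b := by
    rintro ⟨_, b, hb, rfl⟩ ⟨_, c, hc, rfl⟩
    refine Subtype.ext ?_
    show π b * π c = π c * π b
    rw [← map_mul, ← map_mul, show b * c = c * b from Subtype.ext (elem_comm hA.elem hb hc)]
  -- the conjugation action
  let σ : M →* MulAut B := (MulAut.conjNormal (H := B)).comp π
  have hσ : ∀ (m : M) (b : B), ((σ m b : B) : M ⧸ O) = π m * b * (π m)⁻¹ := fun m b => rfl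
  let Ω := {b : B // b ≠ 1}
  let ψ : M →* Equiv.Perm Ω := MonoidHom.mk'
    (fun m => (σ m).toEquiv.subtypeEquiv fun b => (MulEquiv.map_ne_one_iff (σ m)).symm)
    (fun m n => by
      ext ⟨b, hb⟩
      simp [Equiv.Perm.mul_apply])
  have hψ : ∀ (m : M) (c : Ω), ((ψ m c : Ω) : B) = σ m c := fun m c => rfl
  have hker : ∀ m : M, ψ m = 1 ↔ ∀ b : B, σ m b = b := by
    intro m
    refine ⟨fun h b => ?_, fun h => Equiv.ext fun c => Subtype.ext (h c)⟩
    by_cases hb : b = 1
    · rw [hb, map_one]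
    · exact congrArg Subtype.val (Equiv.ext_iff.mp h ⟨b, hb⟩)
  -- points come from involutions of `A`
  have hlift : ∀ c : Ω, ∃ a : M, (a : G) ∈ A ∧ (a : G) ≠ 1 ∧ π a = c.1 := by
    rintro ⟨⟨_, a, ha, rfl⟩, hne⟩
    exact ⟨a, ha, fun h => hne (Subtype.ext ((congrArg π (Subtype.ext h : a = 1)).trans (map_one π))), rfl⟩
  have hmove : ∀ (H : Subgroup M), (∀ a b : M, (a : G) ∈ A → (a : G) ≠ 1 → (b : G) ∈ A → (b : G) ≠ 1 →
      ∃ m ∈ H, m * a * m⁻¹ = b) → IsPretransitive (H.map ψ) Ω := by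
    intro H hH
    refine ⟨fun c d => ?_⟩
    obtain ⟨a, ha, ha1, hac⟩ := hlift c
    obtain ⟨b, hb, hb1, hbd⟩ := hlift d
    obtain ⟨m, hm', hmab⟩ := hH a b ha ha1 hb hb1
    refine ⟨⟨ψ m, m, hm', rfl⟩, Subtype.ext (Subtype.ext ?_)⟩
    show ((ψ m c : Ω).1 : M ⧸ O) = _
    rw [hψ, hσ, ← hac, ← hbd, ← hmab, map_mul, map_mul, map_inv]
  -- the number of points is `p`
  obtain ⟨n, hn⟩ := IsPGroup.iff_card.mp (elem_isPGroup hA.elem)
  have hn3 : 3 ≤ n := by
    by_contra h
    have h1 : 2 ^ n ≤ 2 ^ 2 := Nat.pow_le_pow_right (by norm_num) (by omega)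
    have := hA.eight
    omega
  have hΩ : Nat.card Ω + 1 = Nat.card A := by
    rw [← hBcard, show Nat.card Ω = Nat.card ({1}ᶜ : Set B) from rfl, Nat.card_coe_set_eq,
      ← Set.ncard_add_ncard_compl ({1} : Set B), Set.ncard_singleton, add_comm]
  obtain ⟨u, hu, huM⟩ : ∃ u : G, orderOf u = 2 ∧ u ∉ M := by
    obtain ⟨g, hg⟩ := Over.exists_not_mem hA hM
    obtain ⟨a, ha, ha1⟩ := hA.exists_ne_one
    exact ⟨g * a * g⁻¹, by rw [H39.orderOf_conj, elem_orderOf hA.elem ha ha1], fun h =>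
      hg (H39.se_mem_of_conj (Over.stronglyEmbedded hA hM hm) (elem_orderOf hA.elem ha ha1) (hAM ha) h)⟩
  obtain ⟨k, hk⟩ := Over.exists_card_inf_eq hA hM hm hu huM
  set D := (M ⊓ M.map (MulAut.conj u).toMonoidHom).subgroupOf M with hD
  have hDcard : Nat.card D = p ^ k :=
    (Nat.card_congr (subgroupOfEquivOfLe inf_le_left).toEquiv).trans hk
  have hΩdvd : Nat.card Ω ∣ p ^ k := by
    have : IsPretransitive (D.map ψ) Ω := hmove D fun a b ha ha1 hb hb1 => by
      obtain ⟨d, hd, hdab⟩ := H39.se_transitive (Over.stronglyEmbedded hA hM hm) huM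
        (elem_orderOf hA.elem ha ha1) a.2 (elem_orderOf hA.elem hb hb1) b.2
      exact ⟨⟨d, hd.1⟩, hd, Subtype.ext hdab⟩
    have : Nonempty Ω := by
      have h8 := hA.eight
      exact (Finite.card_pos_iff).mp (by omega)
    obtain ⟨c⟩ := this
    rw [← index_stabilizer_of_transitive (D.map ψ) c, ← hDcard]
    exact (index_dvd_card _).trans (card_map_dvd D ψ)
  obtain ⟨j, -, hj⟩ := (Nat.dvd_prime_pow hp.out).mp hΩdvd
  have hp2 : p ≠ 2 := by have := hm.three_lt; omega
  have hj1 : j = 1 := exponent_eq_one hp.out hp2 (show 2 ≤ n by omega) (by rw [← hj, hΩ, hn])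
  rw [hj1, pow_one] at hj
  have hAp : Nat.card A = p + 1 := by omega
  refine ⟨hAp, ψ.ker, inferInstance, ?_⟩
  -- the induced group
  have htop : IsPretransitive ψ.range Ω := by
    rw [MonoidHom.range_eq_map]
    refine hmove ⊤ fun a b ha ha1 hb hb1 => ?_
    obtain ⟨m, hmM, hmab⟩ := Over.exists_conj_eq_involution hA hM hm ha ha1
      (elem_orderOf hA.elem hb hb1) b.2
    exact ⟨⟨m, hmM⟩, mem_top _, Subtype.ext hmab⟩
  have : Group.IsSolvable ψ.range := Group.isSolvable_of_surjective ψ.rangeRestrict_surjective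
  have hX : Nat.card ψ.range = p := by
    refine card_eq_of_transitive hp2 hj ?_ ?_
    · rintro x ⟨y', rfl⟩ r hr hxr
      by_contra hne
      push Not at hne
      obtain ⟨i, s, hs, hy'⟩ := Nat.exists_eq_pow_mul_and_not_dvd (orderOf_pos (y' : G)).ne' r hr.ne_one
      have hyo : orderOf ((y' : G) ^ s) = r ^ i := by
        rw [orderOf_pow_of_dvd (by rintro rfl; exact hs (dvd_zero r)) ⟨r ^ i, by rw [hy', mul_comm]⟩,
          hy', Nat.mul_div_cancel _ (Nat.pos_of_ne_zero (by rintro rfl; exact hs (dvd_zero r)))]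
      obtain ⟨m, hmM, hmc⟩ := Over.exists_conj_commute hA hM hm hr hne.1 hne.2 (y' ^ s : M).2
        (by rw [Subgroup.coe_pow]; exact hyo)
      have h1 : ψ (y' ^ s) = 1 := by
        rw [hker]
        intro b
        obtain ⟨c, hc, hcb⟩ := (hBn.conj_mem b.1 b.2 (π ⟨m, hmM⟩)⁻¹)
        have hb' : (b : M ⧸ O) = π (⟨m, hmM⟩ * c * ⟨m, hmM⟩⁻¹) := by
          rw [map_mul, map_mul, hcb, map_inv]; group
        refine Subtype.ext ?_
        rw [hσ, hb', ← map_mul, ← map_inv, ← map_mul]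
        refine congrArg π (Subtype.ext ?_)
        have h2 := (hmc c (hA.le_S hc)).eq
        rw [Subgroup.coe_mul, Subgroup.coe_mul, Subgroup.coe_inv, Subgroup.coe_mul, Subgroup.coe_mul,
          Subgroup.coe_inv, Subtype.coe_mk]
        exact mul_inv_eq_iff_eq_mul.mpr h2
      rw [map_pow] at h1
      exact hs (hxr ▸ orderOf_dvd_of_pow_eq_one h1)
    · rintro _ ⟨m, rfl⟩ hm2 c hc
      have hmm : ∀ b : B, σ m (σ m b) = b := by
        intro b
        have h1 : ψ (m * m) = 1 := by rw [map_mul, H39.mul_self_of_orderOf_eq_two hm2]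
        have h2 := (hker _).mp h1 b
        rwa [map_mul] at h2
      let f : B →* B := MonoidHom.mk' (fun b => b * σ m b) (fun b c => by
        rw [map_mul, mul_assoc, ← mul_assoc c, hBcomm c (σ m b)]
        simp only [mul_assoc])
      set F : Set B := {b | σ m b = b}
      have hk' : Nat.card f.ker ≤ Nat.card F := by
        refine Nat.card_le_card_of_injective (fun b => ⟨b.1, ?_⟩) fun b d h => Subtype.ext (by simpa using h)
        have h1 : (b : B) * σ m b = 1 := MonoidHom.mem_ker.mp b.2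
        exact mul_left_cancel (h1.trans (hBexp b).symm)
      have hr' : Nat.card f.range ≤ Nat.card F := by
        refine Nat.card_le_card_of_injective (fun b => ⟨b.1, ?_⟩) fun b d h => Subtype.ext (by simpa using h)
        obtain ⟨d, hd⟩ := b.2
        show σ m b.1 = b.1
        rw [← hd]
        show σ m (d * σ m d) = d * σ m d
        rw [map_mul, hmm, hBcomm]
      have h8 : 2 < Nat.card F := by
        have h1 := f.ker.card_mul_index
        rw [Subgroup.index_ker, hBcard] at h1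
        have := hA.eight
        nlinarith
      obtain ⟨b, hb, hbc⟩ : ∃ b ∈ F, b ∉ ({1, c.1} : Set B) := by
        by_contra h
        push Not at h
        have h1 := Set.ncard_le_ncard (t := ({1, c.1} : Set B)) h
        have h2 := Set.ncard_insert_le (1 : B) ({c.1} : Set B)
        rw [Set.ncard_singleton] at h2
        rw [Nat.card_coe_set_eq] at h8
        omega
      simp only [Set.mem_insert_iff, Set.mem_singleton_iff, not_or] at hbc
      exact ⟨⟨b, hbc.1⟩, fun h => hbc.2 (congrArg Subtype.val h), Subtype.ext hb⟩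
  refine ⟨(Subgroup.index_ker ψ).trans hX, ?_, fun y a ha ha1 hya => ?_, fun y hy a ha => ?_⟩
  · have hcyc : IsCyclic ψ.range := isCyclic_of_prime_card hX
    rw [_root_.commutator_def, commutator_le]
    intro x _ y _
    rw [MonoidHom.mem_ker, map_commutatorElement, commutatorElement_eq_one_iff_mul_comm]
    exact congrArg Subtype.val (IsCyclic.commGroup.mul_comm (⟨ψ x, x, rfl⟩ : ψ.range) ⟨ψ y, y, rfl⟩)
  · -- an element fixing one point fixes all
    have hc1 : (⟨π ⟨a, hAM ha⟩, ⟨a, hAM ha⟩, ha, rfl⟩ : B) ≠ 1 := fun h => ha1 (congrArg Subtype.val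
      (hinj ⟨a, hAM ha⟩ ha ((hπ1 _).mp (congrArg Subtype.val h))))
    set c : Ω := ⟨_, hc1⟩
    have hst : (⟨ψ y, y, rfl⟩ : ψ.range) ∈ stabilizer ψ.range c := by
      refine Subtype.ext (Subtype.ext ?_)
      show ((ψ y c : Ω).1 : M ⧸ O) = _
      rw [hψ, hσ]
      show π y * π ⟨a, hAM ha⟩ * (π y)⁻¹ = π ⟨a, hAM ha⟩
      rw [← map_inv, ← map_mul, ← map_mul]
      exact congrArg π (Subtype.ext (mul_inv_eq_iff_eq_mul.mpr hya.eq))
    have h1 : Nat.card (stabilizer ψ.range c) = 1 := by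
      have h2 := (stabilizer ψ.range c).card_mul_index
      rw [index_stabilizer_of_transitive, hX, hj] at h2
      exact (mul_eq_right₀ hp.out.ne_zero).mp h2
    rw [Subgroup.card_eq_one.mp h1, Subgroup.mem_bot] at hst
    exact congrArg Subtype.val hst
  · rw [← hπ1]
    have h1 : (π y) * π a * (π y)⁻¹ = π a :=
      congrArg Subtype.val ((hker y).mp hy ⟨π a, a, ha, rfl⟩)
    rw [map_mul, map_mul, map_mul, map_inv, map_inv, h1, mul_inv_cancel]

end Cfsg.Agent.H36.NilPPrime
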