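import Mathlib
import Cfsg.Agent.Cores.PCore
import Cfsg.Agent.Hall.Basic
import Cfsg.Agent.H41.Nilpotent
import Cfsg.Agent.H39.Dihedral
import Cfsg.Prelude.Def_LocalEven

/-!
Groups in which every `p'`-subgroup is nilpotent: inheritance and first consequences.
-/

set_option autoImplicit false

namespace Cfsg.Agent.H36.NilPPrime

open Subgroup

universe u

/-- every subgroup of order prime to `p` is nilpotent -/
def Hyp (p : ℕ) (G : Type*) [Group G] : Prop :=
  ∀ H : Subgroup G, (Nat.card H).Coprime p → Group.IsNilpotent H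

variable {p : ℕ} {G : Type*} [Group G]

theorem Hyp.subgroup (h : Hyp p G) (K : Subgroup G) : Hyp p K := by
  intro H hH
  have e := H.equivMapOfInjective K.subtype K.subtype_injective
  have : Group.IsNilpotent (H.map K.subtype) :=
    h _ (by rwa [card_map_of_injective K.subtype_injective])
  exact Group.nilpotent_of_surjective e.symm.toMonoidHom e.symm.surjective

theorem Hyp.of_surjective {G' : Type*} [Group G'] [Finite G] [hp : Fact p.Prime] (h : Hyp p G)
    {f : G →* G'} (hf : Function.Surjective f) : Hyp p G' := by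
  intro H hH
  obtain ⟨L, hLH, hmin⟩ := Set.Finite.exists_minimalFor id {L : Subgroup G | L.map f = H}
    (Set.toFinite _) ⟨H.comap f, map_comap_eq_self_of_surjective hf H⟩
  replace hmin : ∀ L' : Subgroup G, L'.map f = H → L' ≤ L → L' = L := fun L' h1 h2 =>
    le_antisymm h2 (hmin h1 h2)
  have hLH : L.map f = H := hLH
  set N : Subgroup L := f.ker.subgroupOf L
  obtain ⟨P⟩ : Nonempty (Sylow p L) := inferInstance
  have hPN : (P : Subgroup L) ≤ N := by
    intro x hx
    have h1 : ((P : Subgroup L).map L.subtype).map f ≤ H :=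
      (Subgroup.map_mono (map_subtype_le _)).trans_eq hLH
    have h2 := Cores.disjoint_of_isPGroup_of_coprime ((P.isPGroup'.map L.subtype).map f) hH
    rw [inf_eq_left.mpr h1] at h2
    have h3 : f (x : G) ∈ ((P : Subgroup L).map L.subtype).map f := ⟨_, ⟨x, hx, rfl⟩, rfl⟩
    rw [h2, Subgroup.mem_bot] at h3
    exact mem_subgroupOf.mpr (MonoidHom.mem_ker.mpr h3)
  have hF := P.normalizer_sup_eq_top' hPN
  have hsame : ∀ V : Subgroup L, V ⊔ N = ⊤ → V = ⊤ := by
    intro V hV
    have h1 : (V.map L.subtype).map f = H := by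
      refine le_antisymm ((Subgroup.map_mono (map_subtype_le _)).trans_eq hLH) ?_
      rw [← hLH]
      rintro _ ⟨l, hl, rfl⟩
      obtain ⟨v, hv, n, hn, hvn⟩ := mem_sup_of_normal_right.mp (hV.ge (mem_top (⟨l, hl⟩ : L)))
      refine ⟨v, ⟨v, hv, rfl⟩, ?_⟩
      have h2 : (v : G) * n = l := congrArg Subtype.val hvn
      rw [← h2, map_mul, MonoidHom.mem_ker.mp (mem_subgroupOf.mp hn), mul_one]
    have h2 := hmin _ h1 (map_subtype_le _)
    refine map_injective L.subtype_injective ?_
    rw [h2, ← MonoidHom.range_eq_map, range_subtype]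
  have hPn : (P : Subgroup L).Normal := normalizer_eq_top_iff.mp (hsame _ hF)
  obtain ⟨C, hC⟩ := Subgroup.exists_right_complement'_of_coprime P.card_coprime_index
  have hCtop : C = ⊤ := hsame C (top_le_iff.mp (hC.sup_eq_top.ge.trans
    (sup_le (hPN.trans le_sup_right) le_sup_left)))
  have hP1 : (P : Subgroup L) = ⊥ := by
    rw [hCtop] at hC
    exact isComplement'_top_right.mp hC
  have hL : (Nat.card L).Coprime p := by
    rw [Nat.coprime_comm, hp.out.coprime_iff_not_dvd]
    exact fun hd => P.ne_bot_of_dvd_card hd hP1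
  have : Group.IsNilpotent L := h L hL
  rw [← hLH]
  exact Group.nilpotent_of_surjective (f.subgroupMap L) (MonoidHom.subgroupMap_surjective f L)

theorem conj_mem_of_mem_normalizer {H : Subgroup G} {g x : G} (hg : g ∈ normalizer (H : Set G))
    (hx : x ∈ H) : g * x * g⁻¹ ∈ H :=
  (mem_normalizer_iff.mp hg x).mp hx

/-- elements of coprime orders in a common nilpotent subgroup commute -/
theorem commute_of_mem [Finite G] {H : Subgroup G} (hH : Group.IsNilpotent H) {x y : G}
    (hx : x ∈ H) (hy : y ∈ H) (h : (orderOf x).Coprime (orderOf y)) : Commute x y :=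
  (H41.commute_of_coprime_orderOf hH (x := (⟨x, hx⟩ : H)) (y := ⟨y, hy⟩)
    (by rwa [Subgroup.orderOf_mk, Subgroup.orderOf_mk])).map H.subtype

theorem card_sup_dvd_of_le_normalizer {N K : Subgroup G} (h : K ≤ normalizer (N : Set G)) :
    Nat.card ↥(N ⊔ K) ∣ Nat.card N * Nat.card K := by
  set W := N ⊔ K with hW
  have hWN : W ≤ normalizer (N : Set G) := sup_le le_normalizer h
  have : (N.subgroupOf W).Normal := normal_subgroupOf_of_le_normalizer hWN
  have htop : N.subgroupOf W ⊔ K.subgroupOf W = ⊤ := by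
    rw [← subgroupOf_sup le_sup_left le_sup_right, subgroupOf_self]
  have := Hall.card_sup_dvd_mul (N.subgroupOf W) (K.subgroupOf W)
  rwa [htop, card_top, Nat.card_congr (subgroupOfEquivOfLe le_sup_left).toEquiv,
    Nat.card_congr (subgroupOfEquivOfLe le_sup_right).toEquiv] at this

/-- the `p'`-subgroup `N ⊔ K` is nilpotent, so coprime elements of the factors commute -/
theorem Hyp.commute [Finite G] (h : Hyp p G) {N K : Subgroup G}
    (hKN : K ≤ normalizer (N : Set G)) (hN : (Nat.card N).Coprime p) (hK : (Nat.card K).Coprime p)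
    {x y : G} (hx : x ∈ N) (hy : y ∈ K) (hxy : (orderOf x).Coprime (orderOf y)) : Commute x y :=
  commute_of_mem (h (N ⊔ K) ((hN.mul_left hK).coprime_dvd_left (card_sup_dvd_of_le_normalizer hKN)))
    (mem_sup_left hx) (mem_sup_right hy) hxy

/-- an involution inverts no nontrivial element of odd order prime to `p` -/
theorem Hyp.eq_one_of_inverted [Finite G] (h : Hyp p G) (hp2 : p.Coprime 2) {u x : G}
    (hu : orderOf u = 2) (hodd : Odd (orderOf x)) (hxp : (orderOf x).Coprime p)
    (hux : u * x * u⁻¹ = x⁻¹) : x = 1 := by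
  have hn : zpowers u ≤ normalizer (zpowers x : Set G) := by
    rw [zpowers_le, mem_normalizer_iff]
    intro y
    constructor
    · rintro hy
      obtain ⟨k, rfl⟩ := mem_zpowers_iff.mp hy
      rw [← conj_zpow, hux]
      exact zpow_mem (inv_mem (mem_zpowers x)) k
    · intro hy
      obtain ⟨k, hk⟩ := mem_zpowers_iff.mp hy
      have : y = u⁻¹ * x ^ k * u := by rw [hk]; group
      rw [this, inv_eq_of_mul_eq_one_left (H39.mul_self_of_orderOf_eq_two hu)]
      have h2 : u * x ^ k * u⁻¹ = (x⁻¹) ^ k := by rw [← conj_zpow, hux]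
      rw [inv_eq_of_mul_eq_one_left (H39.mul_self_of_orderOf_eq_two hu)] at h2
      rw [h2]
      exact zpow_mem (inv_mem (mem_zpowers x)) k
  have hc := h.commute hn (by rwa [Nat.card_zpowers]) (by rw [Nat.card_zpowers, hu]; exact hp2.symm)
    (mem_zpowers x) (mem_zpowers u) (by rw [hu]; exact Nat.coprime_two_right.mpr hodd)
  have h2 : x = x⁻¹ := by rw [← hux, ← hc.eq, mul_inv_cancel_right]
  have h3 : x ^ 2 = 1 := by
    rw [pow_two]; nth_rw 1 [h2]; exact inv_mul_cancel x
  have h4 := orderOf_dvd_of_pow_eq_one h3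
  have h5 : orderOf x = 1 := by
    rcases (Nat.dvd_prime Nat.prime_two).mp h4 with h' | h'
    · exact h'
    · exact absurd hodd (by rw [h']; decide)
  exact orderOf_eq_one_iff.mp h5

theorem perm4_center : ∀ g : Equiv.Perm (Fin 4), (∀ k, g * k = k * g) → g = 1 := by decide

/-- the symmetric group of degree four is not involved -/
theorem Hyp.not_involves [Finite G] [Fact p.Prime] (h : Hyp p G) (hp3 : 3 < p) :
    ¬ Cfsg.Involves (Equiv.Perm (Fin 4)) G := by
  rintro ⟨K, R, hR, ⟨e⟩⟩
  have h1 : Hyp p (Equiv.Perm (Fin 4)) :=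
    (((h.subgroup K).of_surjective (QuotientGroup.mk'_surjective (R.subgroupOf K)))).of_surjective
      (f := e.toMonoidHom) e.surjective
  have h2 : (Nat.card (⊤ : Subgroup (Equiv.Perm (Fin 4)))).Coprime p := by
    rw [card_top, Nat.card_perm, Nat.card_fin]
    exact Nat.coprime_comm.mp ((Fact.out : p.Prime).coprime_factorial_of_lt (by
      rcases Nat.lt_or_ge 4 p with h' | h'
      · exact h'
      · exfalso
        obtain rfl : p = 4 := by omega
        exact absurd (Fact.out : Nat.Prime 4) (by decide)))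
  have : Group.IsNilpotent (Equiv.Perm (Fin 4)) := Group.isNilpotent_top.mp (h1 ⊤ h2)
  refine Group.IsNilpotent.center_ne_bot (G := Equiv.Perm (Fin 4)) (le_bot_iff.mp fun g hg => ?_)
  rw [Subgroup.mem_bot]
  exact perm4_center g fun k => ((Subgroup.mem_center_iff.mp hg) k).symm

/-- the data of a minimal counterexample -/
structure Min (p : ℕ) (G : Type*) [Group G] : Prop where
  three_lt : 3 < p
  hyp : Hyp p G
  simple : IsSimpleGroup G
  not_solvable : ¬ Group.IsSolvable G
  solvable_of_ne_top : ∀ K : Subgroup G, K ≠ ⊤ → Group.IsSolvable K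

theorem isSolvable_of_hyp_of_no_min (p : ℕ) [Fact p.Prime] (hp3 : 3 < p)
    (hmin : ∀ (G : Type u) [Group G] [Finite G], Min p G → False) (n : ℕ) :
    ∀ (G : Type u) [Group G] [Finite G], Nat.card G = n → Hyp p G → Group.IsSolvable G := by
  induction n using Nat.strong_induction_on with
  | _ n ih =>
  intro G _ _ hn h
  by_contra hns
  have hnt : Nontrivial G := by
    by_contra hsub
    rw [not_nontrivial_iff_subsingleton] at hsub
    exact hns inferInstance
  have hsub : ∀ K : Subgroup G, K ≠ ⊤ → Group.IsSolvable K := fun K hK =>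
    ih (Nat.card K) (hn ▸ lt_of_le_of_ne (Nat.le_of_dvd Nat.card_pos (card_subgroup_dvd_card K))
      fun he => hK (eq_top_of_card_eq K he)) K rfl (h.subgroup K)
  refine hmin G ⟨hp3, h, ⟨fun N hN => ?_⟩, hns, hsub⟩
  by_contra hne
  simp only [not_or] at hne
  have := hsub N hne.2
  have : Group.IsSolvable (G ⧸ N) := by
    refine ih (Nat.card (G ⧸ N)) ?_ (G ⧸ N) rfl (h.of_surjective (QuotientGroup.mk'_surjective N))
    rw [← hn, ← N.index_eq_card, ← N.card_mul_index]
    exact lt_mul_of_one_lt_left (Nat.pos_of_ne_zero index_ne_zero_of_finite)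
      (by rw [one_lt_card_iff_ne_bot]; exact hne.1)
  exact hns (Group.isSolvable_of_ker_le_range N.subtype (QuotientGroup.mk' N) (by simp))

end Cfsg.Agent.H36.NilPPrime
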