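import Cfsg.Agent.H36.NilPPrime.Action

/-!
A strongly embedded subgroup normalising `A` with exactly `p` involutions is impossible.
-/

set_option autoImplicit false

namespace Cfsg.Agent.H36.NilPPrime

open Subgroup MulAction

universe u

variable {p : ℕ} {G : Type u} [Group G] [Finite G] {S : Sylow 2 G} {A M : Subgroup G}

local instance : Fact (Nat.Prime 2) := ⟨Nat.prime_two⟩

/-- `M` normalises `A`, contains no further involutions and acts semiregularly on `A` -/
structure Norm2 (p : ℕ) (S : Sylow 2 G) (A M : Subgroup G) : Prop where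
  closed8 : Closed8 S A
  hover : Over A M
  hmin : Min p G
  mem_A : ∀ t ∈ M, orderOf t = 2 → t ∈ A
  normalizes : M ≤ normalizer (A : Set G)
  fixes : ∀ y ∈ M, ∀ a ∈ A, a ≠ 1 → Commute y a → ∀ b ∈ A, Commute y b

/-- `u` is an involution inverting `r ≠ 1` of odd order -/
structure Inverts (u r : G) : Prop where
  invol : orderOf u = 2
  ne_one : r ≠ 1
  odd : Odd (orderOf r)
  conj_eq : u * r * u⁻¹ = r⁻¹

namespace Norm2

variable (h : Norm2 p S A M)
include h

theorem se : Cfsg.IsStronglyEmbedded M := Over.stronglyEmbedded h.closed8 h.hover h.hmin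

theorem not_mem {u r : G} (hi : Inverts u r) (huM : u ∈ M) : r ∉ M := by
  intro hrM
  have huA := h.mem_A u huM hi.invol
  have h1 : r * r ∈ A := by
    have h2 := A.mul_mem (conj_mem_of_mem_normalizer (h.normalizes hrM) huA) (A.inv_mem huA)
    rwa [show r * u * r⁻¹ * u⁻¹ = r * (u * r * u⁻¹)⁻¹ by group, hi.conj_eq, inv_inv] at h2
  have h3 := h.closed8.elem.2 _ h1
  rw [← pow_two, ← pow_mul] at h3
  exact hi.ne_one (orderOf_eq_one_iff.mp (Nat.eq_one_of_dvd_coprimes
    ((Nat.coprime_two_right.mpr hi.odd).pow_right 2) dvd_rfl (orderOf_dvd_of_pow_eq_one h3)))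

theorem odd_centralizer_of_mem {u r : G} (hi : Inverts u r) (huM : u ∈ M) :
    ∀ s : G, orderOf s = 2 → ¬ Commute s r := by
  intro s hs hsr
  have hr1 := hi.ne_one
  set H := normalizer (zpowers r : Set G) with hH
  have hHtop : H ≠ ⊤ := by
    refine h.hmin.normalizer_ne_top (fun he => hr1 (zpowers_eq_bot.mp he)) ?_
    exact h.hmin.ne_top_of_solvable inferInstance
  have huH : u ∈ H := by
    refine H39.mem_normalizer_of_conj_mem fun x hx => ?_
    obtain ⟨k, rfl⟩ := mem_zpowers_iff.mp hx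
    rw [← conj_zpow, hi.conj_eq]
    exact zpow_mem (inv_mem (mem_zpowers r)) k
  have hsH : s ∈ H := by
    refine H39.mem_normalizer_of_conj_mem fun x hx => ?_
    obtain ⟨k, rfl⟩ := mem_zpowers_iff.mp hx
    rw [(hsr.zpow_right k).eq, mul_inv_cancel_right]
    exact zpow_mem (mem_zpowers r) k
  have hus : u ≠ s := by
    rintro rfl
    have h1 : r⁻¹ = r := by rw [← hi.conj_eq, hsr.eq, mul_inv_cancel_right]
    have h2 : r ^ 2 = 1 := by rw [pow_two]; nth_rw 1 [← h1]; exact inv_mul_cancel r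
    have := orderOf_dvd_of_pow_eq_one h2
    rcases (Nat.dvd_prime Nat.prime_two).mp this with h3 | h3
    · exact hr1 (orderOf_eq_one_iff.mp h3)
    · exact absurd hi.odd (by rw [h3]; decide)
  -- an involution of `H` commuting with `u`, different from `u`
  obtain ⟨w, hw2, hwH, hwu, hne⟩ : ∃ w : G, orderOf w = 2 ∧ w ∈ H ∧ Commute w u ∧ w ≠ u := by
    by_cases hc : Commute s u
    · exact ⟨s, hs, hsH, hc, Ne.symm hus⟩
    rcases Nat.even_or_odd (orderOf (s * u)) with hev | hod
    · obtain ⟨w, hw, hwmem, hwu, hws⟩ := H39.exists_central_involution hi.invol hs hev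
      refine ⟨w, hw, (zpowers_le.mpr (H.mul_mem hsH huH)) hwmem, hwu, ?_⟩
      rintro rfl
      exact hc hws.symm
    · exfalso
      obtain ⟨k, hk, -, -, hkc⟩ := H39.exists_conj_of_odd hi.invol hs hod
      have hkH : k ∈ H := (zpowers_le.mpr (H.mul_mem hsH huH)) hk
      have h1 : s * r * s⁻¹ = r := by rw [hsr.eq, mul_inv_cancel_right]
      obtain ⟨i, hi'⟩ := mem_zpowers_iff.mp
        (conj_mem_of_mem_normalizer (H.inv_mem hkH) (mem_zpowers r))
      rw [inv_inv] at hi'
      -- `k u k⁻¹ = s` inverts `r`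
      have h2 : s * r * s⁻¹ = r⁻¹ := by
        calc s * r * s⁻¹ = k * (u * (k⁻¹ * r * k) * u⁻¹) * k⁻¹ := by rw [← hkc]; group
          _ = k * (u * r * u⁻¹) ^ i * k⁻¹ := by rw [← hi', conj_zpow]
          _ = k * (k⁻¹ * r * k)⁻¹ * k⁻¹ := by rw [hi.conj_eq, inv_zpow, hi']
          _ = r⁻¹ := by group
      have h3 : r ^ 2 = 1 := by rw [pow_two]; nth_rw 1 [h1.symm.trans h2]; exact inv_mul_cancel r
      have := orderOf_dvd_of_pow_eq_one h3
      rcases (Nat.dvd_prime Nat.prime_two).mp this with h4 | h4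
      · exact hr1 (orderOf_eq_one_iff.mp h4)
      · exact absurd hi.odd (by rw [h4]; decide)
  have hwM : w ∈ M := Over.centralizer_le_of_involution h.closed8 h.hover h.hmin hi.invol huM
    (mem_centralizer_singleton_iff.mpr hwu.eq)
  set B := closure ({u, w} : Set G) with hB
  have hBle : ∀ K : Subgroup G, u ∈ K → w ∈ K → B ≤ K := fun K h1 h2 => by
    rw [hB, closure_le]
    exact Set.insert_subset h1 (Set.singleton_subset_iff.mpr h2)
  have hBA : B ≤ A := hBle A (h.mem_A u huM hi.invol) (h.mem_A w hwM hw2)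
  have hBel : Cfsg.IsElementaryAbelian 2 B :=
    ⟨⟨⟨fun x y => Subtype.ext (elem_comm h.closed8.elem (hBA x.2) (hBA y.2))⟩⟩,
      fun a ha => h.closed8.elem.2 a (hBA ha)⟩
  have h4 : 4 ≤ Nat.card B := by
    obtain ⟨n, hn⟩ := IsPGroup.iff_card.mp (elem_isPGroup hBel)
    have hu1 := H39.ne_one_of_orderOf_eq_two hi.invol
    have hw1 := H39.ne_one_of_orderOf_eq_two hw2
    have h3 : 3 ≤ Nat.card B := by
      have h5 : ({1, u, w} : Set G) ⊆ (B : Set G) := by
        refine Set.insert_subset B.one_mem ?_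
        exact fun x hx => subset_closure hx
      have h6 := Set.ncard_le_ncard h5
      rw [Set.ncard_insert_of_notMem (by simp [Ne.symm hu1, Ne.symm hw1]),
        Set.ncard_pair (Ne.symm hne), ← Nat.card_coe_set_eq] at h6
      exact h6
    rcases n with _ | _ | n
    · omega
    · omega
    · rw [hn]; exact Nat.pow_le_pow_right (show 2 > 0 from two_pos) (show 2 ≤ n + 1 + 1 by omega)
  exact h.not_mem hi huM (Over.le_of_four h.closed8 h.hover h.hmin hHtop hBel h4 (hBle H huH hwH)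
    (hBle M huM hwM) (Subgroup.le_normalizer (mem_zpowers r)))

theorem commute_eq_one_of_mem {u r y : G} (hi : Inverts u r) (huM : u ∈ M) (hyr : Commute y r)
    (hyu : Commute y u) : y = 1 := by
  by_contra hy
  have hodd : Odd (orderOf y) := by
    rw [← Nat.not_even_iff_odd]
    intro hev
    obtain ⟨d, hd⟩ := hev
    have hpos := orderOf_pos y
    exact h.odd_centralizer_of_mem hi huM (y ^ d)
      (by rw [orderOf_pow_of_dvd (by omega) (hd ▸ ⟨2, by ring⟩), hd]
          exact Nat.div_eq_of_eq_mul_left (by omega) (by ring))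
      (hyr.pow_left d)
  have hyM : y ∈ M := Over.centralizer_le_of_involution h.closed8 h.hover h.hmin hi.invol huM
    (mem_centralizer_singleton_iff.mpr hyu.eq)
  have hfix := h.fixes y hyM u (h.mem_A u huM hi.invol) (H39.ne_one_of_orderOf_eq_two hi.invol) hyu
  exact h.not_mem hi huM (Over.centralizer_le_of_commute h.closed8 h.hover h.hmin hy M.one_mem
    (fun a ha => by simpa using hfix a ha) (mem_centralizer_singleton_iff.mpr hyr.symm.eq))

omit h in
theorem inverts_conj {u r : G} (hi : Inverts u r) (g : G) :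
    Inverts (g * u * g⁻¹) (g * r * g⁻¹) :=
  ⟨by rw [H39.orderOf_conj, hi.invol], fun he => hi.ne_one (conj_eq_one_iff.mp he),
    by rw [H39.orderOf_conj]; exact hi.odd,
    by rw [show g * u * g⁻¹ * (g * r * g⁻¹) * (g * u * g⁻¹)⁻¹ = g * (u * r * u⁻¹) * g⁻¹ by group,
      hi.conj_eq]; group⟩

omit h in
theorem commute_conj {a b : G} (hc : Commute a b) (g : G) : Commute (g * a * g⁻¹) (g * b * g⁻¹) := by
  have := hc.map (MulAut.conj g).toMonoidHom
  simpa using this

theorem centralizer_props {u r : G} (hi : Inverts u r) :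
    (∀ s : G, orderOf s = 2 → ¬ Commute s r) ∧ (∀ y : G, Commute y r → Commute y u → y = 1) := by
  obtain ⟨g, hg⟩ := H39.se_exists_conj_mem h.se hi.invol
  have hi' := inverts_conj hi g⁻¹
  rw [inv_inv] at hi'
  refine ⟨fun s hs hc => ?_, fun y h1 h2 => ?_⟩
  · refine h.odd_centralizer_of_mem hi' hg (g⁻¹ * s * g⁻¹⁻¹) (by rw [H39.orderOf_conj, hs]) ?_
    have := commute_conj hc g⁻¹
    rwa [inv_inv] at this ⊢
  · have h3 := commute_conj h1 g⁻¹
    have h4 := commute_conj h2 g⁻¹
    rw [inv_inv] at h3 h4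
    exact (conj_eq_one_iff (a := g⁻¹)).mp (by rw [inv_inv]; exact h.commute_eq_one_of_mem hi' hg h3 h4)

theorem not_fix {u r : G} (hi : Inverts u r) {x : G ⧸ M} (hx : u • x = x) : r • x ≠ x := by
  induction x using QuotientGroup.induction_on with
  | _ g =>
  intro hr
  rw [H39.se_smul_mk_eq_iff] at hx hr
  have hi' := inverts_conj hi g⁻¹
  rw [inv_inv] at hi'
  exact h.not_mem hi' hx hr

theorem centralizer_inverted {u r : G} (hi : Inverts u r) {c : G} (hc : Commute c r) :
    u * c * u⁻¹ = c⁻¹ := by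
  obtain ⟨-, hfree⟩ := h.centralizer_props hi
  set C := centralizer ({r} : Set G) with hC
  have hCu : ∀ d ∈ C, u * d * u⁻¹ ∈ C := fun d hd => by
    rw [mem_centralizer_singleton_iff] at hd ⊢
    have h1 : Commute (u * d * u⁻¹) (u * r * u⁻¹) := commute_conj hd u
    rw [hi.conj_eq] at h1
    simpa using h1.inv_right.eq
  let f : C → C := fun d => ⟨(d : G)⁻¹ * (u * d * u⁻¹), C.mul_mem (C.inv_mem d.2) (hCu d d.2)⟩
  have hf : Function.Surjective f := Finite.injective_iff_surjective.mp fun a b hab => by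
    have h1 : (a : G)⁻¹ * (u * a * u⁻¹) = (b : G)⁻¹ * (u * b * u⁻¹) := congrArg Subtype.val hab
    have h2 : (b : G) * (a : G)⁻¹ = u * ((b : G) * (a : G)⁻¹) * u⁻¹ := by
      calc (b : G) * (a : G)⁻¹
          = b * ((a : G)⁻¹ * (u * a * u⁻¹)) * (u * (a : G)⁻¹ * u⁻¹) := by group
        _ = b * ((b : G)⁻¹ * (u * b * u⁻¹)) * (u * (a : G)⁻¹ * u⁻¹) := by rw [h1]
        _ = u * ((b : G) * (a : G)⁻¹) * u⁻¹ := by group
    have h3 := hfree ((b : G) * (a : G)⁻¹)
      (mem_centralizer_singleton_iff.mp (C.mul_mem b.2 (C.inv_mem a.2)))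
      (mul_inv_eq_iff_eq_mul.mp h2.symm).symm
    exact (Subtype.ext (mul_inv_eq_one.mp h3)).symm
  obtain ⟨d, hd⟩ := hf ⟨c, mem_centralizer_singleton_iff.mpr hc.eq⟩
  have hd' : (d : G)⁻¹ * (u * d * u⁻¹) = c := congrArg Subtype.val hd
  have huu := H39.mul_self_of_orderOf_eq_two hi.invol
  rw [← hd']
  calc u * ((d : G)⁻¹ * (u * d * u⁻¹)) * u⁻¹
      = u * (d : G)⁻¹ * u⁻¹ * ((u * u) * d * (u * u)⁻¹) := by group
    _ = ((d : G)⁻¹ * (u * d * u⁻¹))⁻¹ := by rw [huu]; group

theorem centralizer_comm {u r : G} (hi : Inverts u r) {c d : G} (hc : Commute c r) (hd : Commute d r) :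
    Commute c d := by
  have h1 := h.centralizer_inverted hi (hc.mul_left hd)
  have h2 := h.centralizer_inverted hi hc
  have h3 := h.centralizer_inverted hi hd
  rw [show u * (c * d) * u⁻¹ = (u * c * u⁻¹) * (u * d * u⁻¹) by group, h2, h3] at h1
  have := congrArg (fun z => z⁻¹) h1
  simp only [mul_inv_rev, inv_inv] at this
  exact this.symm

theorem isPElem_of_inverted [hp : Fact p.Prime] {u r : G} (hu : orderOf u = 2) (hodd : Odd (orderOf r))
    (hc : u * r * u⁻¹ = r⁻¹) : H40.IsPElem p r := by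
  obtain ⟨i, s, hs, hrs⟩ := Nat.exists_eq_pow_mul_and_not_dvd (orderOf_pos r).ne' p hp.out.ne_one
  have hpi : 0 < p ^ i := pow_pos hp.out.pos i
  have hord : orderOf (r ^ p ^ i) = s := by
    rw [orderOf_pow_of_dvd hpi.ne' ⟨s, hrs⟩, hrs, Nat.mul_div_cancel_left _ hpi]
  refine ⟨i, h.hmin.hyp.eq_one_of_inverted ?_ hu (hord ▸ ?_) ?_ ?_⟩
  · refine (Nat.coprime_primes hp.out Nat.prime_two).mpr ?_
    have := h.hmin.three_lt
    omega
  · rw [hrs] at hodd
    exact (Nat.odd_mul.mp hodd).2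
  · rw [hord, Nat.coprime_comm, hp.out.coprime_iff_not_dvd]
    exact hs
  · rw [← conj_pow, hc, inv_pow]

theorem exists_sylow_eq [hp : Fact p.Prime] {u r : G} (hi : Inverts u r) :
    ∃ P : Sylow p G, (P : Subgroup G) = centralizer ({r} : Set G) := by
  set C := centralizer ({r} : Set G) with hC
  have hodd : ∀ c ∈ C, Odd (orderOf c) := fun c hc => by
    rw [← Nat.not_even_iff_odd]
    rintro ⟨d, hd⟩
    have hpos := orderOf_pos c
    exact (h.centralizer_props hi).1 (c ^ d)
      (by rw [orderOf_pow_of_dvd (by omega) (hd ▸ ⟨2, by ring⟩), hd]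
          exact Nat.div_eq_of_eq_mul_left (by omega) (by ring))
      ((show Commute c r from mem_centralizer_singleton_iff.mp hc).pow_left d)
  have hCp : IsPGroup p C := fun c => by
    obtain ⟨k, hk⟩ := h.isPElem_of_inverted hi.invol (hodd c c.2)
      (h.centralizer_inverted hi (mem_centralizer_singleton_iff.mp c.2))
    exact ⟨k, Subtype.ext (by simpa using hk)⟩
  obtain ⟨P, hP⟩ := hCp.exists_le_sylow
  refine ⟨P, le_antisymm ?_ hP⟩
  have hrP : r ∈ (P : Subgroup G) := hP (mem_centralizer_singleton_iff.mpr rfl)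
  have : Nontrivial (P : Subgroup G) := ⟨⟨⟨r, hrP⟩, 1, fun he => hi.ne_one (congrArg Subtype.val he)⟩⟩
  obtain ⟨z, -, hzc, hz⟩ := PGroups.exists_mem_center_orderOf_eq P.isPGroup' ⊤ top_ne_bot
  have hcz : ∀ x ∈ (P : Subgroup G), Commute x (z : G) := fun x hx =>
    congrArg Subtype.val (mem_center_iff.mp hzc ⟨x, hx⟩)
  have hzC : (z : G) ∈ C := mem_centralizer_singleton_iff.mpr (hcz r hrP).symm.eq
  have hz1 : (z : G) ≠ 1 := fun he => by
    rw [← Subgroup.orderOf_coe, he, orderOf_one] at hz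
    exact hp.out.ne_one hz.symm
  have hiz : Inverts u (z : G) := ⟨hi.invol, hz1, hodd _ hzC,
    h.centralizer_inverted hi (mem_centralizer_singleton_iff.mp hzC)⟩
  intro x hx
  exact mem_centralizer_singleton_iff.mpr
    (h.centralizer_comm hiz (hcz x hx) (mem_centralizer_singleton_iff.mp hzC).symm).eq

theorem pair_props {u v : G} (hu : orderOf u = 2) (hv : orderOf v = 2) {x y : G ⧸ M} (hx : u • x = x)
    (hy : v • y = y) (hxy : x ≠ y) : Inverts u (v * u) := by
  have huu := H39.mul_self_of_orderOf_eq_two hu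
  refine ⟨hu, fun he => ?_, ?_, ?_⟩
  · have hvu : v = u := by rw [eq_inv_of_mul_eq_one_left he, inv_eq_of_mul_eq_one_left huu]
    exact hxy (H39.se_fix_unique h.se hu hx (hvu ▸ hy))
  · rw [← Nat.not_even_iff_odd]
    intro hev
    obtain ⟨w, hw, -, hwu, hwv⟩ := H39.exists_central_involution hu hv hev
    have hwx : w • x = x :=
      H39.se_fix_unique h.se hu (by rw [← mul_smul, ← hwu.eq, mul_smul, hx]) hx
    have hwy : w • y = y :=
      H39.se_fix_unique h.se hv (by rw [← mul_smul, ← hwv.eq, mul_smul, hy]) hy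
    exact hxy (H39.se_fix_unique h.se hw hwx hwy)
  · exact H39.conj_mul_involutions hu hv

theorem false_of_card [hp : Fact p.Prime] (hAp : Nat.card A = p + 1) {K : Subgroup M} (hK : K.index = p)
    (hKC : ∀ y ∈ K, ∀ a ∈ A, Commute (y : G) a) : False := by
  classical
  have hse := h.se
  have hp2 : p ≠ 2 := by have := h.hmin.three_lt; omega
  -- an inverted element and its centralizer
  obtain ⟨g, hg⟩ := Over.exists_not_mem h.closed8 h.hover
  obtain ⟨a, ha, ha1⟩ := h.closed8.exists_ne_one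
  have hao := elem_orderOf h.closed8.elem ha ha1
  have hi₀ : Inverts a (g * a * g⁻¹ * a) := by
    refine h.pair_props hao (by rw [H39.orderOf_conj, hao]) (x := QuotientGroup.mk 1)
      (y := QuotientGroup.mk g) (H39.se_smul_mk_eq_iff.mpr ?_) (H39.se_smul_mk_eq_iff.mpr ?_)
      fun he => hg (by simpa using QuotientGroup.eq.mp he)
    · simpa using Over.A_le h.closed8 h.hover ha
    · simpa [mul_assoc] using Over.A_le h.closed8 h.hover ha
  set r₀ := g * a * g⁻¹ * a
  obtain ⟨P₀, hP₀⟩ := h.exists_sylow_eq hi₀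
  have hr₀P : r₀ ∈ (P₀ : Subgroup G) := hP₀ ▸ mem_centralizer_singleton_iff.mpr rfl
  have hinv₀ : ∀ c ∈ (P₀ : Subgroup G), c ≠ 1 → Inverts a c := fun c hc hc1 => by
    refine ⟨hao, hc1, ?_, h.centralizer_inverted hi₀ (mem_centralizer_singleton_iff.mp (hP₀ ▸ hc))⟩
    obtain ⟨k, hk⟩ := isPGroup_iff_orderOf_dvd_pow.mp P₀.isPGroup' ⟨c, hc⟩
    rw [Subgroup.orderOf_mk] at hk
    exact (Odd.pow (hp.out.odd_of_ne_two hp2)).of_dvd_nat hk
  -- every nontrivial `p`-element is inverted
  have hall : ∀ r : G, r ≠ 1 → H40.IsPElem p r → ∃ u, Inverts u r := by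
    rintro r hr ⟨k, hk⟩
    have hz : IsPGroup p (zpowers r) := by
      obtain ⟨j, -, hj⟩ := (Nat.dvd_prime_pow hp.out).mp (orderOf_dvd_of_pow_eq_one hk)
      exact IsPGroup.of_card (n := j) (by rw [Nat.card_zpowers, hj])
    obtain ⟨x, hx⟩ := H39.exists_conj_le_sylow hz P₀
    have hi := inverts_conj (hinv₀ _ (hx r (mem_zpowers r)) (fun he => hr (conj_eq_one_iff.mp he))) x⁻¹
    rw [show x⁻¹ * (x * r * x⁻¹) * x⁻¹⁻¹ = r by group] at hi
    exact ⟨_, hi⟩
  -- the index of `M`
  set n := M.index with hn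
  have hKp : ¬ p ∣ Nat.card K := by
    intro hd
    obtain ⟨⟨y, hy⟩, hyp⟩ := exists_prime_orderOf_dvd_card' p hd
    rw [Subgroup.orderOf_mk, ← Subgroup.orderOf_coe] at hyp
    obtain ⟨u, hu⟩ := hall (y : G) (fun he => hp.out.ne_one (by rw [← hyp, he, orderOf_one]))
      ⟨1, by rw [pow_one, ← hyp, pow_orderOf_eq_one]⟩
    exact (h.centralizer_props hu).1 a hao (hKC y hy a ha).symm
  set q := Nat.card (P₀ : Subgroup G) with hq
  obtain ⟨e, he⟩ := IsPGroup.iff_card.mp P₀.isPGroup'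
  have he0 : e ≠ 0 := fun h0 => by
    rw [h0, pow_zero, Subgroup.card_eq_one] at he
    exact hi₀.ne_one (Subgroup.mem_bot.mp (he ▸ hr₀P))
  have hqn : q ∣ n * p := by
    have h1 : q ∣ n * p * Nat.card K := by
      rw [mul_assoc, mul_comm p, ← hK, K.card_mul_index, mul_comm n, hn, M.card_mul_index]
      exact card_subgroup_dvd_card _
    refine Nat.Coprime.dvd_of_dvd_mul_right ?_ h1
    rw [hq, he]
    exact (hp.out.coprime_iff_not_dvd.mpr hKp).pow_left e
  -- the involutions
  let I := {t : G // orderOf t = 2}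
  choose pt hpt using fun t : I => H39.se_exists_fix hse t.2
  have hfib : ∀ x : G ⧸ M, Nat.card {t : I // pt t = x} = p := by
    intro x
    have h1 : Nat.card {t : G // orderOf t = 2 ∧ t ∈ M} + 1 = Nat.card A := by
      have h2 : {t : G | orderOf t = 2 ∧ t ∈ M} = (A : Set G) \ {1} := by
        ext t
        refine ⟨fun ht => ⟨h.mem_A t ht.2 ht.1, fun h' => H39.ne_one_of_orderOf_eq_two ht.1 h'⟩,
          fun ht => ⟨elem_orderOf h.closed8.elem ht.1 ht.2, Over.A_le h.closed8 h.hover ht.1⟩⟩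
      rw [show Nat.card {t : G // orderOf t = 2 ∧ t ∈ M} = ({t : G | orderOf t = 2 ∧ t ∈ M}).ncard from
        Nat.card_coe_set_eq _, h2, Set.ncard_diff_singleton_add_one A.one_mem]
      rfl
    have h3 : Nat.card {t : I // pt t = x} = Nat.card {t : G // orderOf t = 2 ∧ t ∈ M} := by
      rw [← H39.se_card_fix (H := M) x]
      exact Nat.card_congr
        { toFun := fun t => ⟨t.1.1, t.1.2, by obtain ⟨t, rfl⟩ := t; exact hpt t⟩
          invFun := fun t => ⟨⟨t.1, t.2.1⟩, H39.se_fix_unique hse t.2.1 (hpt ⟨t.1, t.2.1⟩) t.2.2⟩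
          left_inv := fun t => rfl
          right_inv := fun t => rfl }
    omega
  have : Fintype (G ⧸ M) := Fintype.ofFinite _
  have hI : Nat.card I = n * p := by
    rw [← Nat.card_congr (Equiv.sigmaFiberEquiv pt), Nat.card_sigma]
    simp only [hfib, Finset.sum_const, Finset.card_univ, smul_eq_mul]
    rw [← Nat.card_eq_fintype_card, ← Subgroup.index_eq_card]
  have : Fintype I := Fintype.ofFinite _
  have hpairs : Nat.card ((u : I) × {v : I // ¬ pt v = pt u}) = n * p * (n * p - p) := by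
    rw [Nat.card_sigma]
    have h1 : ∀ u : I, Nat.card {v : I // ¬ pt v = pt u} = n * p - p := by
      intro u
      have := Nat.card_congr (Equiv.sumCompl fun v : I => pt v = pt u)
      rw [Nat.card_sum, hfib, hI] at this
      omega
    simp only [h1, Finset.sum_const, Finset.card_univ, smul_eq_mul]
    rw [← Nat.card_eq_fintype_card, hI]
  -- the `p`-elements
  set R := {r : G // r ≠ 1 ∧ H40.IsPElem p r}
  have : Fintype R := Fintype.ofFinite _
  have hRodd : ∀ r : R, Odd (orderOf (r : G)) := fun r => by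
    obtain ⟨k, hk⟩ := r.2.2
    exact (Odd.pow (hp.out.odd_of_ne_two hp2)).of_dvd_nat (orderOf_dvd_of_pow_eq_one hk)
  have hcount : ∀ r : R, Nat.card {u : G // orderOf u = 2 ∧ u * r * u⁻¹ = (r : G)⁻¹} = q := by
    intro r
    obtain ⟨u₀, hu₀⟩ := hall r r.2.1 r.2.2
    obtain ⟨P, hP⟩ := h.exists_sylow_eq hu₀
    rw [hq, P₀.card_eq_multiplicity, ← P.card_eq_multiplicity, hP]
    have huu := H39.mul_self_of_orderOf_eq_two hu₀.invol
    refine Nat.card_congr
      { toFun := fun u => ⟨u.1 * u₀, ?_⟩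
        invFun := fun c => ⟨c.1 * u₀, ?_, ?_⟩
        left_inv := fun u => Subtype.ext (by simp [mul_assoc, huu])
        right_inv := fun c => Subtype.ext (by simp [mul_assoc, huu]) }
    · rw [mem_centralizer_singleton_iff]
      have h1 := u.2.2
      calc u.1 * u₀ * (r : G) = u.1 * (u₀ * r * u₀⁻¹) * u₀ := by group
        _ = u.1 * (r : G)⁻¹ * u₀ := by rw [hu₀.conj_eq]
        _ = (u.1 * r * u.1⁻¹)⁻¹ * u.1 * u₀ := by group
        _ = (r : G) * (u.1 * u₀) := by rw [h1, inv_inv, mul_assoc]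
    · refine H39.orderOf_eq_two_of_mul_self ?_ fun he' => ?_
      · have h1 := h.centralizer_inverted hu₀ (mem_centralizer_singleton_iff.mp c.2)
        calc c.1 * u₀ * (c.1 * u₀) = c.1 * (u₀ * c.1 * u₀⁻¹) * (u₀ * u₀) := by group
          _ = 1 := by rw [h1, huu]; group
      · have h1 : (c.1 : G) = u₀ := by
          rw [eq_inv_of_mul_eq_one_left he', inv_eq_of_mul_eq_one_left huu]
        exact (h.centralizer_props hu₀).1 u₀ hu₀.invol (h1 ▸ mem_centralizer_singleton_iff.mp c.2)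
    · calc c.1 * u₀ * (r : G) * (c.1 * u₀)⁻¹ = c.1 * (u₀ * r * u₀⁻¹) * c.1⁻¹ := by group
        _ = c.1 * (r : G)⁻¹ * c.1⁻¹ := by rw [hu₀.conj_eq]
        _ = (r : G)⁻¹ := by
          rw [(show Commute c.1 (r : G) from mem_centralizer_singleton_iff.mp c.2).inv_right.eq,
            mul_inv_cancel_right]
  have hbij : n * p * (n * p - p) = Nat.card R * q := by
    rw [← hpairs, show Nat.card R * q =
      Nat.card ((r : R) × {u : G // orderOf u = 2 ∧ u * r * u⁻¹ = (r : G)⁻¹}) by
        rw [Nat.card_sigma]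
        simp only [hcount, Finset.sum_const, Finset.card_univ, smul_eq_mul]
        rw [Nat.card_eq_fintype_card]]
    have hpair : ∀ w : (u : I) × {v : I // ¬ pt v = pt u}, Inverts w.1.1 (w.2.1.1 * w.1.1) :=
      fun w => h.pair_props w.1.2 w.2.1.2 (hpt w.1) (hpt w.2.1) (Ne.symm w.2.2)
    refine Nat.card_congr (Equiv.ofBijective
      (fun w => (⟨⟨w.2.1.1 * w.1.1, (hpair w).ne_one,
        h.isPElem_of_inverted (hpair w).invol (hpair w).odd (hpair w).conj_eq⟩,
        ⟨w.1.1, w.1.2, (hpair w).conj_eq⟩⟩ :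
          (r : R) × {u : G // orderOf u = 2 ∧ u * r * u⁻¹ = (r : G)⁻¹})) ⟨?_, ?_⟩)
    · rintro ⟨u, v, hv⟩ ⟨u', v', hv'⟩ heq
      have h1 : (u : G) = u' := congrArg
        (fun z : (r : R) × {u : G // orderOf u = 2 ∧ u * r * u⁻¹ = (r : G)⁻¹} => z.2.1) heq
      have h2 : (v : G) * u = (v' : G) * u' := congrArg
        (fun z : (r : R) × {u : G // orderOf u = 2 ∧ u * r * u⁻¹ = (r : G)⁻¹} => z.1.1) heq
      obtain rfl : u = u' := Subtype.ext h1
      obtain rfl : v = v' := Subtype.ext (mul_right_cancel h2)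
      rfl
    · rintro ⟨r, u, hu, hur⟩
      have hi : Inverts u (r : G) := ⟨hu, r.2.1, hRodd r, hur⟩
      have huu := H39.mul_self_of_orderOf_eq_two hu
      have hv : orderOf ((r : G) * u) = 2 := by
        refine H39.orderOf_eq_two_of_mul_self ?_ fun he' => ?_
        · calc (r : G) * u * ((r : G) * u) = (r : G) * (u * r * u⁻¹) * (u * u) := by group
            _ = 1 := by rw [hur, huu]; group
        · have hru : (r : G) = u := by
            rw [eq_inv_of_mul_eq_one_left he', inv_eq_of_mul_eq_one_left huu]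
          exact (h.centralizer_props hi).1 u hu (by rw [hru])
      refine ⟨⟨⟨u, hu⟩, ⟨(r : G) * u, hv⟩, fun he' => ?_⟩, ?_⟩
      · refine h.not_fix hi (hpt ⟨u, hu⟩) ?_
        have h1 := hpt ⟨(r : G) * u, hv⟩
        rw [he'] at h1
        have h2 := h1
        rw [mul_smul, hpt ⟨u, hu⟩] at h2
        exact h2
      · exact Sigma.subtype_ext (Subtype.ext (show (r : G) * u * u = r by rw [mul_assoc, huu, mul_one]))
          rfl
  -- the number of `p`-elements is prime to `p`
  have hRp : ¬ p ∣ Nat.card R := by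
    letI : MulAction (P₀ : Subgroup G) R :=
      { smul := fun c r => ⟨(c : G) * r * (c : G)⁻¹, fun h' => r.2.1 (conj_eq_one_iff.mp h'), by
          obtain ⟨k, hk⟩ := r.2.2
          exact ⟨k, by rw [conj_pow, hk]; group⟩⟩
        one_smul := fun r => Subtype.ext (show (1 : G) * r * (1 : G)⁻¹ = r by group)
        mul_smul := fun c d r => Subtype.ext (show (c : G) * d * r * ((c : G) * d)⁻¹ =
          (c : G) * ((d : G) * r * (d : G)⁻¹) * (c : G)⁻¹ by group) }
    have hfixed : Nat.card (fixedPoints (P₀ : Subgroup G) R) + 1 = q := by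
      have h1 : ((↑) : R → G) '' (fixedPoints (P₀ : Subgroup G) R) = ((P₀ : Subgroup G) : Set G) \ {1} := by
        ext x
        constructor
        · rintro ⟨r, hr, rfl⟩
          refine ⟨hP₀ ▸ mem_centralizer_singleton_iff.mpr ?_, r.2.1⟩
          exact (mul_inv_eq_iff_eq_mul.mp (congrArg Subtype.val (hr ⟨r₀, hr₀P⟩) :
            r₀ * (r : G) * r₀⁻¹ = r)).symm
        · rintro ⟨hx, hx1⟩
          obtain ⟨k, hk⟩ := P₀.isPGroup' ⟨x, hx⟩
          refine ⟨⟨x, hx1, k, by simpa using congrArg Subtype.val hk⟩, fun c => Subtype.ext ?_, rfl⟩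
          show (c : G) * x * (c : G)⁻¹ = x
          have hcC : (c : G) ∈ centralizer ({r₀} : Set G) := hP₀ ▸ c.2
          have hxC : x ∈ centralizer ({r₀} : Set G) := hP₀ ▸ hx
          rw [(h.centralizer_comm hi₀ (mem_centralizer_singleton_iff.mp hcC)
            (mem_centralizer_singleton_iff.mp hxC)).eq, mul_inv_cancel_right]
      rw [Nat.card_coe_set_eq, ← Set.ncard_image_of_injective _ Subtype.val_injective, h1,
        Set.ncard_diff_singleton_add_one (P₀ : Subgroup G).one_mem]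
      rfl
    intro hd
    have h2 := (P₀.isPGroup'.card_modEq_card_fixedPoints R)
    have h3 : p ∣ Nat.card (fixedPoints (P₀ : Subgroup G) R) :=
      Nat.modEq_zero_iff_dvd.mp (h2.symm.trans (Nat.modEq_zero_iff_dvd.mpr hd))
    have h4 : p ∣ q := by rw [hq, he]; exact dvd_pow_self p he0
    rw [← hfixed] at h4
    exact hp.out.not_dvd_one ((Nat.dvd_add_right h3).mp h4)
  -- the two counts disagree
  refine hRp ?_
  have hdvd : p * q ∣ Nat.card R * q := by
    rw [← hbij, show n * p * (n * p - p) = p * (n * p * (n - 1)) by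
      rw [show n * p - p = p * (n - 1) by rw [Nat.mul_sub, mul_one, mul_comm]]; ring]
    exact mul_dvd_mul_left p (hqn.mul_right _)
  exact (Nat.mul_dvd_mul_iff_right (Nat.card_pos (α := (P₀ : Subgroup G)))).mp hdvd

end Norm2

theorem Over.false_of_pCore_ne_bot (hA : Closed8 S A) (hM : Over A M) (hm : Min p G) [hp : Fact p.Prime]
    (h2 : Cfsg.pCore 2 M ≠ ⊥) : False := by
  obtain ⟨hAp, K, -, hK, -, hKfix, hKcomm⟩ := Over.exists_kernel hA hM hm
  have hAM := Over.A_le hA hM
  have hsol : Group.IsSolvable M := hm.solvable_of_ne_top M hM.ne_top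
  set F := Cfsg.pCore 2 M with hF
  have hFn : F.Normal := inferInstance
  obtain ⟨⟨t, htF⟩, ht2⟩ := exists_prime_orderOf_dvd_card' (G := F) 2 (by
    obtain ⟨n, hn⟩ := IsPGroup.iff_card.mp (Cores.pCore_isPGroup (p := 2) (G := M))
    rw [hn]
    refine dvd_pow_self 2 fun h0 => h2 ?_
    rw [h0, pow_zero] at hn
    exact Subgroup.card_eq_one.mp hn)
  rw [Subgroup.orderOf_mk, ← Subgroup.orderOf_coe] at ht2
  have hAF : ∀ a : M, (a : G) ∈ A → a ∈ F := by
    intro a ha
    by_cases ha1 : (a : G) = 1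
    · rw [show a = 1 from Subtype.ext ha1]; exact F.one_mem
    obtain ⟨m, hmM, hmt⟩ := Over.exists_conj_eq_involution hA hM hm ha ha1 ht2 t.2
    have h1 := hFn.conj_mem t htF (⟨m, hmM⟩ : M)⁻¹
    rwa [show (⟨m, hmM⟩ : M)⁻¹ * t * ((⟨m, hmM⟩ : M)⁻¹)⁻¹ = a from Subtype.ext (by
      show m⁻¹ * (t : G) * m⁻¹⁻¹ = a
      rw [← hmt]; group)] at h1
  have hnorm : M ≤ normalizer (A : Set G) := by
    intro m hm'
    refine H39.mem_normalizer_of_conj_mem fun a ha => ?_
    obtain ⟨_, ⟨o, ho, rfl⟩, n, hn, -, rfl⟩ := factor_of_strongly_closed hsol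
      (S.subtype (Over.sylow_le hA hM)) hAM (fun b hb => hA.le_S hb)
      (fun x hx y hy => elem_comm hA.elem hx hy) (fun b hb x hx => hA.closed b hb x hx) hm'
    have h1 := conj_mem_of_mem_normalizer hn ha
    have h2' := congrArg Subtype.val (Cores.commute_pCore_pPrimeCore (hAF ⟨n * a * n⁻¹, hAM h1⟩ h1) ho).eq
    change (o : G) * n * a * ((o : G) * n)⁻¹ ∈ A
    rw [show (o : G) * n * a * ((o : G) * n)⁻¹ = (o : G) * (n * a * n⁻¹) * (o : G)⁻¹ by group]
    change n * a * n⁻¹ * (o : G) = (o : G) * (n * a * n⁻¹) at h2'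
    rw [← h2', mul_inv_cancel_right]
    exact h1
  have hKC : ∀ y ∈ K, ∀ a ∈ A, Commute (y : G) a := by
    intro y hy a ha
    have h1 := hKcomm y hy ⟨a, hAM ha⟩ ha
    have h3 : (y * ⟨a, hAM ha⟩ * y⁻¹ * (⟨a, hAM ha⟩ : M)⁻¹ : M) ∈ F ⊓ Cfsg.oddCore M :=
      ⟨hAF _ (A.mul_mem (conj_mem_of_mem_normalizer (hnorm y.2) ha) (A.inv_mem ha)), h1⟩
    have hd : F ⊓ Cfsg.oddCore M = ⊥ := Cores.pCore_inf_pPrimeCore
    rw [hd, Subgroup.mem_bot] at h3
    exact mul_inv_eq_iff_eq_mul.mp (congrArg Subtype.val (mul_inv_eq_one.mp h3))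
  refine Norm2.false_of_card (p := p) ⟨hA, hM, hm, fun t ht ht2' => ?_, hnorm,
    fun y hy a ha ha1 hya => hKC _ (hKfix ⟨y, hy⟩ a ha ha1 hya)⟩ hAp hK hKC
  obtain ⟨a, ha, ha1⟩ := hA.exists_ne_one
  obtain ⟨m, hmM, rfl⟩ := Over.exists_conj_eq_involution hA hM hm ha ha1 ht2' ht
  exact conj_mem_of_mem_normalizer (hnorm hmM) ha

end Cfsg.Agent.H36.NilPPrime
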