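import Cfsg.Agent.H36.NilPPrime.Action
import Cfsg.Agent.Thompson.ZJFusion
import Cfsg.Agent.Fusion.Basic
import Cfsg.Agent.Linear.Dickson.Orders

/-!
The strongly embedded subgroup has a nontrivial normal 2-subgroup.
-/

set_option autoImplicit false

namespace Cfsg.Agent.H36.NilPPrime

open Subgroup

universe u

local instance : Fact (Nat.Prime 2) := ⟨Nat.prime_two⟩

theorem not_hasSection_qd {p : ℕ} [hp : Fact p.Prime] (hp3 : 3 < p) {X : Type*} [Group X]
    [Group.IsSolvable X] : ¬ Thompson.HasSection (Cfsg.qd p) X := fun h => by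
  obtain ⟨M, φ, hφ⟩ := Thompson.hasSection_sl2_of_qd h
  have hsl := Group.isSolvable_of_surjective hφ
  refine Linear.Dickson.not_isSolvable_PSL (K := ZMod p) (by rw [Nat.card_zmod]; omega) ?_
  exact Group.isSolvable_of_surjective (QuotientGroup.mk'_surjective _)

variable {p : ℕ} {G : Type u} [Group G] [Finite G] {S : Sylow 2 G} {A M : Subgroup G}

theorem Over.pCore_ne_bot (hA : Closed8 S A) (hM : Over A M) (hm : Min p G) [hp : Fact p.Prime] :
    Cfsg.pCore 2 M ≠ ⊥ := by
  intro h2
  obtain ⟨-, K, hKn, hKp, hKcomm, -, -⟩ := Over.exists_kernel hA hM hm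
  have hp2 : p ≠ 2 := by have := hm.three_lt; omega
  have hsol : Group.IsSolvable M := hm.solvable_of_ne_top M hM.ne_top
  set U := Cfsg.pPrimeCore p M with hU
  have hUchar : U.Characteristic := Cores.pPrimeCore_characteristic
  -- `U` has odd order
  have hUodd : ¬ 2 ∣ Nat.card U := by
    intro hd
    have : Group.IsNilpotent U := hm.hyp.subgroup M U Cores.coprime_card_pPrimeCore
    obtain ⟨Q⟩ : Nonempty (Sylow 2 U) := inferInstance
    have : (Q : Subgroup U).Characteristic := Q.characteristic_of_normal inferInstance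
    have h1 : (Q : Subgroup U).map U.subtype ≤ Cfsg.pCore 2 M := Cores.le_pCore (Q.isPGroup'.map _)
    rw [h2, le_bot_iff, Subgroup.map_eq_bot_iff_of_injective _ U.subtype_injective] at h1
    exact Q.ne_bot_of_dvd_card hd h1
  obtain ⟨P⟩ : Nonempty (Sylow p M) := inferInstance
  have hpM : p ∣ Nat.card M := hKp.symm.dvd.trans (index_dvd_card K)
  have hPne : (P : Subgroup M) ≠ ⊥ := P.ne_bot_of_dvd_card hpM
  set Z := Thompson.zjay 0 (P : Subgroup M) with hZ
  set π := QuotientGroup.mk' U with hπ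
  have hsurj : Function.Surjective π := QuotientGroup.mk'_surjective U
  have hinjP : Function.Injective (π.comp (P : Subgroup M).subtype) := by
    rw [← MonoidHom.ker_eq_bot_iff, eq_bot_iff]
    intro x hx
    have hdis : (P : Subgroup M) ⊓ U = ⊥ :=
      Cores.disjoint_of_isPGroup_of_coprime P.isPGroup' Cores.coprime_card_pPrimeCore
    have h1 : (x : M) ∈ U := (QuotientGroup.eq_one_iff _).mp hx
    rw [Subgroup.mem_bot]
    exact Subtype.ext (Subgroup.mem_bot.mp (hdis ▸ ⟨x.2, h1⟩))
  have hZn : (Z.map π).Normal := by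
    have h1 : Thompson.zjay 0 ((P.mapSurjective hsurj : Sylow p (M ⧸ U)) : Subgroup (M ⧸ U)) = Z.map π := by
      rw [Sylow.coe_mapSurjective, Thompson.zjay_map_of_injective_comp π _ hinjP]
    rw [← h1]
    exact Thompson.zjay_zero_normal hp2 (Cores.centralizer_pCore_le Cores.isPSolvable_of_isSolvable
      Cores.pPrimeCore_quotient_pPrimeCore)
      (Thompson.stableOnNormal_of_qd_free hp2 (not_hasSection_qd hm.three_lt)) _
  have hZP : Z ≤ (P : Subgroup M) := Thompson.zjay_le
  have hsup : normalizer (Z : Set M) ⊔ U = ⊤ := by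
    refine eq_top_iff.mpr fun m _ => ?_
    obtain ⟨w, hw, hwQ⟩ := H39.exists_conj_mem_le_sylow
      ((P.isPGroup'.to_le hZP).map (MulAut.conj m).toMonoidHom) (K := (P : Subgroup M) ⊔ U) (by
        rintro _ ⟨z, hz, rfl⟩
        have h1 := hZn.conj_mem _ (mem_map_of_mem π hz) (π m)
        rw [← map_inv, ← map_mul, ← map_mul, ← Subgroup.mem_comap, QuotientGroup.comap_map_mk'] at h1
        exact (sup_le le_sup_right (hZP.trans le_sup_left)) h1) P le_sup_left
    obtain ⟨t, ht, o, ho, rfl⟩ := mem_sup_of_normal_right.mp hw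
    have hom : o * m ∈ normalizer (Z : Set M) := by
      refine H39.mem_normalizer_of_conj_mem fun z hz => ?_
      have h2 : o * m * z * (o * m)⁻¹ ∈ (P : Subgroup M) := by
        have h3 := hwQ _ (mem_map_of_mem _ hz)
        simp only [MulEquiv.coe_toMonoidHom, MulAut.conj_apply] at h3
        have h4 := (P : Subgroup M).mul_mem ((P : Subgroup M).mul_mem ((P : Subgroup M).inv_mem ht) h3) ht
        rwa [show t⁻¹ * (t * o * (m * z * m⁻¹) * (t * o)⁻¹) * t = o * m * z * (o * m)⁻¹ by group] at h4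
      have h5 : π (o * m * z * (o * m)⁻¹) ∈ Z.map π := by
        rw [map_mul, map_mul, map_inv]
        exact hZn.conj_mem _ (mem_map_of_mem π hz) _
      obtain ⟨z', hz', he⟩ := h5
      have h6 := @hinjP ⟨z', hZP hz'⟩ ⟨_, h2⟩ he
      have h7 : z' = o * m * z * (o * m)⁻¹ := congrArg Subtype.val h6
      rwa [← h7]
    rw [show m = o⁻¹ * (o * m) by group]
    exact mul_mem (mem_sup_right (U.inv_mem ho)) (mem_sup_left hom)
  have hidx : ¬ 2 ∣ (normalizer (Z : Set M)).index := by
    intro hd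
    refine hUodd (hd.trans ?_)
    have h1 := Hall.card_sup_dvd_mul U (normalizer (Z : Set M))
    rw [sup_comm, hsup, card_top, ← (normalizer (Z : Set M)).card_mul_index, mul_comm (Nat.card U)] at h1
    exact (Nat.mul_dvd_mul_iff_left Nat.card_pos).mp h1
  obtain ⟨T⟩ : Nonempty (Sylow 2 (normalizer (Z : Set M))) := inferInstance
  obtain ⟨m, hm'⟩ := MulAction.exists_smul_eq M (S.subtype (Over.sylow_le hA hM))
    ((T.isPGroup'.map (normalizer (Z : Set M)).subtype).toSylow (by
      rw [Subgroup.index_map_subtype]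
      intro hd
      rcases Nat.prime_two.dvd_mul.mp hd with h | h
      · exact T.not_dvd_index h
      · exact hidx h))
  have hAZ : ∀ a : M, (a : G) ∈ A → m * a * m⁻¹ ∈ normalizer (Z : Set M) := by
    intro a ha
    have h2 : m * a * m⁻¹ ∈ ((m • S.subtype (Over.sylow_le hA hM) : Sylow 2 M) : Subgroup M) := by
      rw [Sylow.coe_subgroup_smul]
      exact ⟨a, hA.le_S ha, rfl⟩
    rw [hm'] at h2
    exact map_subtype_le _ h2
  set P₀ := (P : Subgroup M).map M.subtype with hP₀
  have hP₀p : IsPGroup p P₀ := P.isPGroup'.map _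
  have hP₀ne : P₀ ≠ ⊥ := fun h => hPne
    ((Subgroup.map_eq_bot_iff_of_injective _ M.subtype_injective).mp h)
  set Z₀ := Thompson.zjay 0 P₀ with hZ₀
  have hZ₀eq : Z₀ = Z.map M.subtype := Thompson.zjay_map_of_injective_comp M.subtype _
    (M.subtype_injective.comp (P : Subgroup M).subtype_injective)
  have hZne : Z₀ ≠ ⊥ := Thompson.zjay_ne_bot hP₀p hP₀ne (Or.inl rfl)
  have hNZ : normalizer (Z₀ : Set G) ≤ M := by
    refine Over.le_of_four hA hM hm (hm.normalizer_ne_top hZne
      (hm.ne_top_of_isPGroup (hP₀p.to_le Thompson.zjay_le))) (elem_map hA.elem (m : G)) ?_ ?_ ?_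
    · rw [card_map_of_injective (MulAut.conj (m : G)).injective]
      exact le_trans (by norm_num) hA.eight
    · rintro _ ⟨a, ha, rfl⟩
      refine H39.mem_normalizer_of_conj_mem fun x hx => ?_
      rw [hZ₀eq] at hx ⊢
      obtain ⟨z, hz, rfl⟩ := hx
      exact ⟨_, conj_mem_of_mem_normalizer (hAZ ⟨a, Over.A_le hA hM ha⟩ ha) hz, rfl⟩
    · rintro _ ⟨a, ha, rfl⟩
      exact M.mul_mem (M.mul_mem m.2 (Over.A_le hA hM ha)) (M.inv_mem m.2)
  -- `P` is a Sylow subgroup of `G`
  obtain ⟨P', hP'⟩ := hP₀p.exists_le_sylow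
  have hPeq : P₀ = (P' : Subgroup G) := by
    by_contra hne
    obtain ⟨x, hxP, hxn, hxN⟩ := H39.exists_mem_normalizer_not_mem P'.isPGroup' (lt_of_le_of_ne hP' hne)
    have hxM : x ∈ M := hNZ ((Thompson.zjayW_isPFunctor (p := p) (e := 0) (Or.inl rfl)).normalizer_le
      hP₀p hxN)
    have hV : IsPGroup p (((P' : Subgroup G)).subgroupOf M) := P'.isPGroup'.comap_subtype
    have hmax := P.is_maximal' hV fun y hy => hP' ⟨y, hy, rfl⟩
    exact hxn ⟨⟨x, hxM⟩, hmax ▸ (show (⟨x, hxM⟩ : M) ∈ (P' : Subgroup G).subgroupOf M from hxP), rfl⟩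
  have hPM : (P' : Subgroup G) ≤ M := hPeq ▸ map_subtype_le _
  have hfus : Fusion.ControlsElementFusion M (P' : Subgroup G) := by
    intro x hx g hg
    have hfree : ∀ V : Subgroup G, (P' : Subgroup G) ⊓ centralizer ((P' : Subgroup G) : Set G) ≤ V →
        V ≤ (P' : Subgroup G) → ¬ Thompson.HasSection (Cfsg.qd p) (normalizer (V : Set G)) := by
      intro V hV hVP
      have hne : Nontrivial (P' : Subgroup G) :=
        (Subgroup.nontrivial_iff_ne_bot _).mpr (hPeq ▸ hP₀ne)
      obtain ⟨z, -, hzc, hz⟩ := PGroups.exists_mem_center_orderOf_eq P'.isPGroup' ⊤ top_ne_bot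
      have hzV : (z : G) ∈ V := hV ⟨z.2, mem_centralizer_iff.mpr fun s hs =>
        congrArg Subtype.val (mem_center_iff.mp hzc ⟨s, hs⟩)⟩
      have hV1 : V ≠ ⊥ := fun h => by
        rw [h, Subgroup.mem_bot] at hzV
        rw [← Subgroup.orderOf_coe, hzV, orderOf_one] at hz
        exact hp.out.ne_one hz.symm
      have := hm.solvable_of_ne_top _ (hm.normalizer_ne_top hV1
        (hm.ne_top_of_isPGroup (P'.isPGroup'.to_le hVP)))
      exact not_hasSection_qd hm.three_lt
    obtain ⟨n, hn, hne⟩ := Thompson.induced_zjay_of_local hp2 P' hfree (zpowers x)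
      (zpowers_le.mpr hx) g (by
        rintro _ ⟨y, hy, rfl⟩
        obtain ⟨i, rfl⟩ := mem_zpowers_iff.mp hy
        rw [map_zpow]
        exact zpow_mem (show g * x * g⁻¹ ∈ (P' : Subgroup G) from hg) i)
    exact ⟨n, hNZ (by rwa [hZ₀, hPeq]), hne x (mem_zpowers x)⟩
  have htop : commutator G = ⊤ := by
    have := hm.simple
    refine (IsSimpleGroup.eq_bot_or_eq_top_of_normal (commutator G) inferInstance).resolve_left fun h => ?_
    refine hm.not_solvable (Group.isSolvable_of_comm fun a b => ?_)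
    rw [← commutatorElement_eq_one_iff_mul_comm, ← Subgroup.mem_bot, ← h]
    exact commutator_mem_commutator (mem_top _) (mem_top _)
  have h3 := Fusion.commutator_inf_eq_of_controls P' hPM hfus
  rw [htop, top_inf_eq, ← map_subtype_commutator] at h3
  have hPK : (P : Subgroup M) ≤ K := by
    intro x hx
    have h4 : (x : G) ∈ (P' : Subgroup G) := hPeq ▸ ⟨x, hx, rfl⟩
    obtain ⟨y, hy, hyx⟩ := (h3.le h4).1
    exact hKcomm (Subtype.ext hyx ▸ hy)
  exact P.not_dvd_index (hKp.symm.dvd.trans (index_dvd_of_le hPK))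

end Cfsg.Agent.H36.NilPPrime
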