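import Cfsg.Agent.Cores.Constrained
import Cfsg.Agent.H39.Basic
import Cfsg.Agent.H39.Dihedral

/-!
A strongly closed abelian 2-subgroup of a finite solvable group is normal modulo the odd core.
-/

set_option autoImplicit false

namespace Cfsg.Agent.H36.NilPPrime

open Subgroup
open Cfsg (oddCore pCore)

variable {X : Type*} [Group X] [Finite X]

local instance : Fact (Nat.Prime 2) := ⟨Nat.prime_two⟩

/-- a 2-subgroup of `T N` is carried into `T` by an element of `N` -/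
theorem exists_mem_conj_le (T : Sylow 2 X) (N : Subgroup X) [N.Normal] {Q : Subgroup X}
    (hQ : IsPGroup 2 Q) (hQT : Q ≤ (T : Subgroup X) ⊔ N) :
    ∃ o ∈ N, ∀ q ∈ Q, o * q * o⁻¹ ∈ (T : Subgroup X) := by
  obtain ⟨w, hw, hwQ⟩ := H39.exists_conj_mem_le_sylow hQ hQT T le_sup_left
  obtain ⟨t, ht, o, ho, rfl⟩ := mem_sup_of_normal_right.mp hw
  refine ⟨o, ho, fun q hq => ?_⟩
  have h := (T : Subgroup X).mul_mem ((T : Subgroup X).mul_mem ((T : Subgroup X).inv_mem ht)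
    (hwQ q hq)) ht
  rwa [show t⁻¹ * (t * o * q * (t * o)⁻¹) * t = o * q * o⁻¹ by group] at h

/-- a strongly closed abelian 2-subgroup of a solvable group with trivial odd core is normal -/
theorem normal_of_oddCore_eq_bot [Group.IsSolvable X] (hO : oddCore X = ⊥) (T : Sylow 2 X)
    {B : Subgroup X} (hBT : B ≤ (T : Subgroup X)) (hBc : ∀ a ∈ B, ∀ b ∈ B, a * b = b * a)
    (hsc : ∀ b ∈ B, ∀ x : X, x * b * x⁻¹ ∈ (T : Subgroup X) → x * b * x⁻¹ ∈ B) : B.Normal := by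
  set F := pCore 2 X with hF
  have hCF : centralizer (F : Set X) ≤ F :=
    Cores.centralizer_pCore_le Cores.isPSolvable_of_isSolvable hO
  have hFT : F ≤ (T : Subgroup X) := Cores.pCore_le_sylow T
  have hFn : F.Normal := inferInstance
  set B1 := B ⊓ F with hB1
  have hB1n : B1.Normal := ⟨fun b hb g =>
    ⟨hsc b hb.1 g (hFT (hFn.conj_mem b hb.2 g)), hFn.conj_mem b hb.2 g⟩⟩
  have hFB : ∀ f ∈ F, ∀ b ∈ B, f * b * f⁻¹ * b⁻¹ ∈ B1 := fun f hf b hb =>
    ⟨B.mul_mem (hsc b hb f ((T : Subgroup X).mul_mem ((T : Subgroup X).mul_mem (hFT hf) (hBT hb))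
      ((T : Subgroup X).inv_mem (hFT hf)))) (B.inv_mem hb),
      by
        rw [show f * b * f⁻¹ * b⁻¹ = f * (b * f⁻¹ * b⁻¹) by group]
        exact F.mul_mem hf (hFn.conj_mem _ (F.inv_mem hf) b)⟩
  let K : Subgroup X :=
    { carrier := {x | (∀ c ∈ B1, x * c * x⁻¹ = c) ∧ ∀ f ∈ F, x * f * x⁻¹ * f⁻¹ ∈ B1}
      one_mem' := ⟨fun c _ => by group, fun f _ => by simp [B1.one_mem]⟩
      mul_mem' := fun {x y} hx hy => ⟨fun c hc => by
          rw [show x * y * c * (x * y)⁻¹ = x * (y * c * y⁻¹) * x⁻¹ by group, hy.1 c hc, hx.1 c hc],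
        fun f hf => by
          have h1 := hy.2 f hf
          have h2 := B1.mul_mem h1 (hx.2 f hf)
          rwa [show y * f * y⁻¹ * f⁻¹ * (x * f * x⁻¹ * f⁻¹) =
            x * y * f * (x * y)⁻¹ * f⁻¹ by
            nth_rw 1 [← hx.1 _ h1]; group] at h2⟩
      inv_mem' := fun {x} hx => ⟨fun c hc => by
          nth_rw 1 [← hx.1 c hc]; group,
        fun f hf => by
          have h3 := hB1n.conj_mem _ (B1.inv_mem (hx.2 f hf)) x⁻¹
          rwa [show x⁻¹ * (x * f * x⁻¹ * f⁻¹)⁻¹ * x⁻¹⁻¹ = x⁻¹ * f * x⁻¹⁻¹ * f⁻¹ by group] at h3⟩ }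
  have hKn : K.Normal := ⟨fun x hx g => ⟨fun c hc => by
      have h1 := hx.1 _ (hB1n.conj_mem c hc g⁻¹)
      rw [show g * x * g⁻¹ * c * (g * x * g⁻¹)⁻¹ = g * (x * (g⁻¹ * c * g⁻¹⁻¹) * x⁻¹) * g⁻¹ by group, h1]
      group,
    fun f hf => by
      have h1 := hB1n.conj_mem _ (hx.2 _ (hFn.conj_mem f hf g⁻¹)) g
      rwa [show g * (x * (g⁻¹ * f * g⁻¹⁻¹) * x⁻¹ * (g⁻¹ * f * g⁻¹⁻¹)⁻¹) * g⁻¹ =
        g * x * g⁻¹ * f * (g * x * g⁻¹)⁻¹ * f⁻¹ by group] at h1⟩⟩
  have hBK : B ≤ K := fun b hb => ⟨fun c hc => by rw [hBc b hb c hc.1, mul_inv_cancel_right],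
    fun f hf => by
      have := B1.inv_mem (hFB f hf b hb)
      rwa [show (f * b * f⁻¹ * b⁻¹)⁻¹ = b * f * b⁻¹ * f⁻¹ by group] at this⟩
  -- elements of odd order of `K` are trivial
  have hodd : ∀ y ∈ K, Odd (orderOf y) → y = 1 := by
    intro y hy hyo
    have hyF : y ∈ centralizer (F : Set X) := by
      rw [mem_centralizer_iff]
      intro f hf
      set β := y * f * y⁻¹ * f⁻¹ with hβ
      have hstep : ∀ k : ℕ, y ^ k * f * (y ^ k)⁻¹ = β ^ k * f := by
        intro k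
        induction k with
        | zero => simp
        | succ k ih =>
          have h1 : y * β ^ k * y⁻¹ = β ^ k := hy.1 _ (B1.pow_mem (hy.2 f hf) k)
          calc y ^ (k + 1) * f * (y ^ (k + 1))⁻¹ = y * (y ^ k * f * (y ^ k)⁻¹) * y⁻¹ := by
                rw [pow_succ']; group
            _ = (y * β ^ k * y⁻¹) * (y * f * y⁻¹) := by rw [ih]; group
            _ = β ^ k * (β * f) := by rw [h1, hβ]; group
            _ = β ^ (k + 1) * f := by rw [pow_succ]; group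
      have h1 := hstep (orderOf y)
      rw [pow_orderOf_eq_one, inv_one, one_mul, mul_one] at h1
      have h2 : β ^ orderOf y = 1 := mul_eq_right.mp h1.symm
      obtain ⟨k, hk⟩ := isPGroup_iff_orderOf_dvd_pow.mp T.isPGroup' ⟨β, hBT (hy.2 f hf).1⟩
      rw [Subgroup.orderOf_mk] at hk
      have h3 : β = 1 := orderOf_eq_one_iff.mp (Nat.eq_one_of_dvd_coprimes
        ((Nat.coprime_two_right.mpr hyo).pow_right k).symm hk (orderOf_dvd_of_pow_eq_one h2))
      have h4 : y * f * y⁻¹ = f := mul_inv_eq_one.mp h3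
      exact (mul_inv_eq_iff_eq_mul.mp h4).symm
    obtain ⟨k, hk⟩ := isPGroup_iff_orderOf_dvd_pow.mp Cores.pCore_isPGroup ⟨y, hCF hyF⟩
    rw [Subgroup.orderOf_mk] at hk
    exact orderOf_eq_one_iff.mp (Nat.eq_one_of_dvd_coprimes
      ((Nat.coprime_two_right.mpr hyo).pow_right k).symm hk dvd_rfl)
  have hK2 : IsPGroup 2 K := by
    intro x
    obtain ⟨k, m, hm, hkm⟩ := Nat.exists_eq_two_pow_mul_odd (orderOf_pos (x : X)).ne'
    refine ⟨k, Subtype.ext ?_⟩
    rw [Subgroup.coe_pow, Subgroup.coe_one]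
    refine hodd _ (K.pow_mem x.2 _) ?_
    rw [orderOf_pow_of_dvd (by positivity) ⟨m, hkm⟩, hkm, Nat.mul_div_cancel_left _ (by positivity)]
    exact hm
  have hBF : B ≤ F := hBK.trans (Cores.le_pCore hK2)
  rwa [hB1, inf_eq_left.mpr hBF] at hB1n

/-- in a solvable group a strongly closed abelian 2-subgroup has normalizer covering `X / O(X)` -/
theorem exists_factor_of_strongly_closed [Group.IsSolvable X] (T : Sylow 2 X) {B : Subgroup X}
    (hBT : B ≤ (T : Subgroup X)) (hBc : ∀ a ∈ B, ∀ b ∈ B, a * b = b * a)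
    (hsc : ∀ b ∈ B, ∀ x : X, x * b * x⁻¹ ∈ (T : Subgroup X) → x * b * x⁻¹ ∈ B) (x : X) :
    ∃ o ∈ oddCore X, ∃ n ∈ normalizer (B : Set X), x = o * n := by
  set O := oddCore X with hO
  have : O.Characteristic := Cores.pPrimeCore_characteristic
  set π := QuotientGroup.mk' O with hπ
  have hsurj : Function.Surjective π := QuotientGroup.mk'_surjective O
  have hBn : (B.map π).Normal := by
    refine normal_of_oddCore_eq_bot (X := X ⧸ O) Cores.pPrimeCore_quotient_pPrimeCore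
      (T.mapSurjective hsurj) (Subgroup.map_mono hBT) ?_ ?_
    · rintro _ ⟨a, ha, rfl⟩ _ ⟨b, hb, rfl⟩
      rw [← map_mul, hBc a ha b hb, map_mul]
    · rintro _ ⟨b, hb, rfl⟩ z hz
      obtain ⟨z, rfl⟩ := hsurj z
      rw [← map_inv, ← map_mul, ← map_mul] at hz ⊢
      rw [Sylow.coe_mapSurjective, ← Subgroup.mem_comap, QuotientGroup.comap_map_mk', sup_comm] at hz
      have hQ : IsPGroup 2 (zpowers (z * b * z⁻¹)) := by
        obtain ⟨k, hk⟩ := isPGroup_iff_orderOf_dvd_pow.mp T.isPGroup' ⟨b, hBT hb⟩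
        rw [Subgroup.orderOf_mk] at hk
        obtain ⟨j, -, hj⟩ := (Nat.dvd_prime_pow Nat.prime_two).mp hk
        exact IsPGroup.of_card (n := j) (by rw [Nat.card_zpowers, H39.orderOf_conj, hj])
      obtain ⟨o, ho, hoT⟩ := exists_mem_conj_le T O hQ (zpowers_le.mpr hz)
      have h1 := hoT _ (mem_zpowers _)
      have h2 : o * (z * b * z⁻¹) * o⁻¹ ∈ B := by
        rw [show o * (z * b * z⁻¹) * o⁻¹ = o * z * b * (o * z)⁻¹ by group] at h1 ⊢
        exact hsc b hb _ h1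
      refine ⟨_, h2, ?_⟩
      rw [map_mul, map_mul, map_inv, show π o = 1 from (QuotientGroup.eq_one_iff o).mpr ho]
      group
  have hle : B.map (MulAut.conj x).toMonoidHom ≤ (T : Subgroup X) ⊔ O := by
    rintro _ ⟨b, hb, rfl⟩
    have h1 := hBn.conj_mem _ ⟨b, hb, rfl⟩ (π x)
    rw [← map_inv, ← map_mul, ← map_mul, ← Subgroup.mem_comap, QuotientGroup.comap_map_mk'] at h1
    exact (sup_le le_sup_right (hBT.trans le_sup_left)) h1
  obtain ⟨o, ho, hoT⟩ := exists_mem_conj_le T O ((T.isPGroup'.to_le hBT).map _) hle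
  refine ⟨o⁻¹, O.inv_mem ho, o * x, H39.mem_normalizer_of_conj_mem fun b hb => ?_, by group⟩
  have h1 := hoT _ (mem_map_of_mem _ hb)
  simp only [MulEquiv.coe_toMonoidHom, MulAut.conj_apply] at h1
  rw [show o * (x * b * x⁻¹) * o⁻¹ = o * x * b * (o * x)⁻¹ by group] at h1
  exact hsc b hb _ h1

/-- the previous statement inside a solvable subgroup `H` -/
theorem factor_of_strongly_closed {H : Subgroup X} (hH : Group.IsSolvable H) (T : Sylow 2 H)
    {B : Subgroup X} (hBH : B ≤ H) (hBT : ∀ b : H, (b : X) ∈ B → b ∈ (T : Subgroup H))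
    (hBc : ∀ a ∈ B, ∀ b ∈ B, a * b = b * a)
    (hsc : ∀ b : H, (b : X) ∈ B → ∀ h : H, h * b * h⁻¹ ∈ (T : Subgroup H) →
      ((h * b * h⁻¹ : H) : X) ∈ B) {h : X} (hh : h ∈ H) :
    ∃ o ∈ (oddCore H).map H.subtype, ∃ n ∈ normalizer (B : Set X), n ∈ H ∧ h = o * n := by
  obtain ⟨o, ho, n, hn, hon⟩ := exists_factor_of_strongly_closed T (B := B.subgroupOf H) hBT
    (fun a ha b hb => Subtype.ext (hBc a ha b hb)) hsc ⟨h, hh⟩
  refine ⟨o, ⟨o, ho, rfl⟩, n, H39.mem_normalizer_of_conj_mem fun b hb => ?_, n.2,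
    congrArg Subtype.val hon⟩
  exact (mem_normalizer_iff.mp hn ⟨b, hBH hb⟩).mp hb

end Cfsg.Agent.H36.NilPPrime
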