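import Cfsg.Agent.H36.NilPPrime.Setup
import Cfsg.Agent.H36.NilPPrime.Closed
import Cfsg.Agent.H30.ConnectedCores
import Cfsg.Agent.H39.StronglyEmbedded
import Cfsg.Agent.Hall.Existence
import Cfsg.Agent.S0217

/-!
A minimal counterexample has a strongly embedded subgroup containing the normalizer of `A`.
-/

set_option autoImplicit false

namespace Cfsg.Agent.H36.NilPPrime

open Subgroup

universe u

variable {p : ℕ} {G : Type u} [Group G] [Finite G] {S : Sylow 2 G} {A M : Subgroup G}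

local instance : Fact (Nat.Prime 2) := ⟨Nat.prime_two⟩

theorem elem_comm {B : Subgroup G} (hB : Cfsg.IsElementaryAbelian 2 B) {a b : G} (ha : a ∈ B)
    (hb : b ∈ B) : a * b = b * a :=
  congrArg Subtype.val (hB.1.1.comm ⟨a, ha⟩ ⟨b, hb⟩)

theorem elem_isPGroup {B : Subgroup G} (hB : Cfsg.IsElementaryAbelian 2 B) : IsPGroup 2 B := fun x =>
  ⟨1, Subtype.ext (by simpa using hB.2 x x.2)⟩

theorem elem_orderOf {B : Subgroup G} (hB : Cfsg.IsElementaryAbelian 2 B) {a : G} (ha : a ∈ B)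
    (ha1 : a ≠ 1) : orderOf a = 2 :=
  orderOf_eq_prime (hB.2 a ha) ha1

theorem elem_map {B : Subgroup G} (hB : Cfsg.IsElementaryAbelian 2 B) (m : G) :
    Cfsg.IsElementaryAbelian 2 (B.map (MulAut.conj m).toMonoidHom) := by
  refine ⟨⟨⟨?_⟩⟩, ?_⟩
  · rintro ⟨_, a, ha, rfl⟩ ⟨_, b, hb, rfl⟩
    apply Subtype.ext
    show (MulAut.conj m).toMonoidHom a * (MulAut.conj m).toMonoidHom b = _ * _
    rw [← map_mul, elem_comm hB ha hb, map_mul]
  · rintro _ ⟨a, ha, rfl⟩
    rw [← map_pow, hB.2 a ha, map_one]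

theorem elem_not_isCyclic {B : Subgroup G} (hB : Cfsg.IsElementaryAbelian 2 B) (h4 : 4 ≤ Nat.card B) :
    ¬ IsCyclic B := fun h => by
  obtain ⟨g, hg⟩ := IsCyclic.exists_generator (α := B)
  have h1 : orderOf g = Nat.card B := orderOf_eq_card_of_forall_mem_zpowers hg
  have h2 : orderOf g ∣ 2 := orderOf_dvd_of_pow_eq_one (Subtype.ext (by simpa using hB.2 g g.2))
  have := Nat.le_of_dvd two_pos h2
  omega

/-- generation of the odd core of a subgroup containing a noncyclic elementary 2-group -/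
theorem oddCore_map_le {H B K : Subgroup G} (hB : Cfsg.IsElementaryAbelian 2 B) (h4 : 4 ≤ Nat.card B)
    (hBH : B ≤ H) (hK : ∀ b ∈ B, b ≠ 1 → centralizer ({b} : Set G) ≤ K) :
    (Cfsg.oddCore H).map H.subtype ≤ K := by
  have := hB.1
  refine Coprime.le_of_centralizer_noncyclic_le (elem_not_isCyclic hB h4) ?_ ?_
    fun a ha ha1 => inf_le_right.trans (hK a ha ha1)
  · have : (Cfsg.oddCore H).Characteristic := Cores.pPrimeCore_characteristic
    exact hBH.trans (Components.le_normalizer_map_subtype _)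
  · rw [card_map_of_injective H.subtype_injective]
    obtain ⟨n, hn⟩ := IsPGroup.iff_card.mp (elem_isPGroup hB)
    rw [hn]
    exact (Nat.coprime_two_left.mpr Cores.odd_card_oddCore).pow_left n

namespace Closed8

theorem ne_bot (hA : Closed8 S A) : A ≠ ⊥ := fun h => by
  have := hA.eight
  rw [h, card_bot] at this
  omega

theorem exists_ne_one (hA : Closed8 S A) : ∃ a ∈ A, a ≠ 1 := by
  by_contra h
  push Not at h
  exact hA.ne_bot ((eq_bot_iff_forall A).mpr h)

theorem le_normalizer (hA : Closed8 S A) : (S : Subgroup G) ≤ normalizer (A : Set G) := fun s hs =>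
  H39.mem_normalizer_of_conj_mem fun a ha => hA.closed a ha s ((S : Subgroup G).mul_mem
    ((S : Subgroup G).mul_mem hs (hA.le_S ha)) ((S : Subgroup G).inv_mem hs))

theorem mem_of_conj (hA : Closed8 S A) {Q : Subgroup G} (hQ : IsPGroup 2 Q) (hAQ : A ≤ Q) {a g : G}
    (ha : a ∈ A) (h : g * a * g⁻¹ ∈ Q) : g * a * g⁻¹ ∈ A := by
  obtain ⟨x, hx⟩ := H39.exists_conj_le_sylow hQ S
  have hxN : x ∈ normalizer (A : Set G) := H39.mem_normalizer_of_conj_mem fun b hb =>
    hA.closed b hb x (hx b (hAQ hb))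
  have h1 := hx _ h
  rw [show x * (g * a * g⁻¹) * x⁻¹ = x * g * a * (x * g)⁻¹ by group] at h1
  have h2 := hA.closed a ha _ h1
  rw [show x * g * a * (x * g)⁻¹ = x * (g * a * g⁻¹) * x⁻¹ by group] at h2
  exact (mem_normalizer_iff.mp hxN _).mpr h2

theorem mem_normalizer (hA : Closed8 S A) {Q : Subgroup G} (hQ : IsPGroup 2 Q) (hAQ : A ≤ Q) {g : G}
    (h : ∀ a ∈ A, g * a * g⁻¹ ∈ Q) : g ∈ normalizer (A : Set G) :=
  H39.mem_normalizer_of_conj_mem fun a ha => hA.mem_of_conj hQ hAQ ha (h a ha)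

end Closed8

/-- the properties of the subgroup generated by the signalizer functor and `N(A)` -/
structure Over (A M : Subgroup G) : Prop where
  normalizer_le : normalizer (A : Set G) ≤ M
  ne_top : M ≠ ⊤
  centralizer_le : ∀ a ∈ A, a ≠ 1 → centralizer ({a} : Set G) ≤ M

theorem Min.exists_over (hm : Min p G) (hA : Closed8 S A) : ∃ M : Subgroup G, Over A M := by
  set θ : G → Subgroup G := Cfsg.centralizerPPrimeCore 2 with hθ
  have hlt : ∀ a ∈ A, a ≠ 1 → θ a ≠ ⊤ := fun a _ ha1 h =>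
    hm.centralizer_ne_top ha1 (top_le_iff.mp (h ▸ H47.centralizerPPrimeCore_le a))
  obtain ⟨hodd, -⟩ := S0217.result (p := 2) A (fun a ha b hb => elem_comm hA.elem ha hb)
    (fun a ha => hA.elem.2 a ha) hA.eight θ
    (fun a _ _ => H47.centralizerPPrimeCore_le a) (fun a _ _ => H47.not_dvd_centralizerPPrimeCore a)
    (fun a ha _ b hb x hx => by
      have h := Fusion.Signalizer.centralizerPPrimeCore_conj (p := 2) a b
      rw [elem_comm hA.elem hb ha, mul_inv_cancel_right] at h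
      rw [hθ] at hx ⊢
      rw [h]
      exact ⟨x, hx, rfl⟩)
    (fun a ha ha1 => hm.solvable_of_ne_top _ (hlt a ha ha1))
    (fun a ha ha1 b hb hb1 => by
      refine H40.balance_of_constrained ⟨1, by rw [pow_one]; exact hA.elem.2 a ha⟩
        (elem_comm hA.elem ha hb) ?_
      have := hm.centralizer_solvable hb1
      exact Cores.isPConstrained_of_isPSolvable Cores.isPSolvable_of_isSolvable)
  set W := ⨆ a : {a : G // a ∈ A ∧ a ≠ 1}, θ a with hW
  have hNW : normalizer (A : Set G) ≤ normalizer (W : Set G) := by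
    intro n hn
    apply H39.mem_normalizer_of_conj_mem
    intro x hx
    suffices h : W.map (MulAut.conj n).toMonoidHom ≤ W from h ⟨x, hx, rfl⟩
    rw [hW, Subgroup.map_iSup]
    refine iSup_le fun a => ?_
    rw [← Fusion.Signalizer.centralizerPPrimeCore_conj (p := 2) (a : G) n]
    refine le_iSup (fun c : {a : G // a ∈ A ∧ a ≠ 1} => θ c)
      ⟨n * a * n⁻¹, conj_mem_of_mem_normalizer hn a.2.1, fun h => a.2.2 (conj_eq_one_iff.mp h)⟩
  refine ⟨W ⊔ normalizer (A : Set G), le_sup_right, ?_, fun a ha ha1 c hc => ?_⟩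
  · by_cases hWb : W = ⊥
    · rw [hWb, bot_sup_eq]
      exact hm.normalizer_ne_top hA.ne_bot
        (hm.ne_top_of_isPGroup (elem_isPGroup hA.elem))
    · intro h
      refine hm.normalizer_ne_top hWb (fun hWt => hodd ?_)
        (top_le_iff.mp (h.ge.trans (sup_le Subgroup.le_normalizer hNW)))
      rw [hWt, card_top]
      exact hm.even.two_dvd
  · set C := centralizer ({a} : Set G) with hC
    have hAC : A ≤ C := fun b hb => mem_centralizer_singleton_iff.mpr (elem_comm hA.elem hb ha)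
    obtain ⟨T, hT⟩ := ((elem_isPGroup hA.elem).comap_subtype (K := C)).exists_le_sylow
    obtain ⟨o, ho, n, hn, -, rfl⟩ := factor_of_strongly_closed (hm.centralizer_solvable ha1) T hAC
      (fun b hb => hT hb) (fun x hx y hy => elem_comm hA.elem hx hy)
      (fun b hb x hx => hA.mem_of_conj (T.isPGroup'.map C.subtype)
        (fun c hc => ⟨⟨c, hAC hc⟩, hT hc, rfl⟩) (g := (x : G)) hb ⟨_, hx, rfl⟩) hc
    exact mul_mem (mem_sup_left (le_iSup (fun c : {a : G // a ∈ A ∧ a ≠ 1} => θ c) ⟨a, ha, ha1⟩ ho))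
      (mem_sup_right hn)

namespace Over

variable (hA : Closed8 S A) (hM : Over A M)
include hA hM

theorem sylow_le : (S : Subgroup G) ≤ M := hA.le_normalizer.trans hM.normalizer_le

theorem A_le : A ≤ M := hA.le_S.trans (sylow_le hA hM)

theorem mem_of_conj_le {g : G} (h : ∀ a ∈ A, g * a * g⁻¹ ∈ M) : g ∈ M := by
  obtain ⟨x, hx, hxS⟩ := H39.exists_conj_mem_le_sylow
    ((elem_isPGroup hA.elem).map (MulAut.conj g).toMonoidHom)
    (by rintro _ ⟨a, ha, rfl⟩; exact h a ha) S (sylow_le hA hM)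
  have h1 : x * g ∈ normalizer (A : Set G) := hA.mem_normalizer S.isPGroup' hA.le_S fun a ha => by
    have h2 := hxS _ (mem_map_of_mem _ ha)
    simpa [mul_assoc] using h2
  simpa using M.mul_mem (M.inv_mem hx) (hM.normalizer_le h1)

theorem centralizer_le_of_mem_sylow (hm : Min p G) {t : G} (ht : orderOf t = 2)
    (htS : t ∈ (S : Subgroup G)) : centralizer ({t} : Set G) ≤ M := by
  set C := centralizer ({t} : Set G) with hC
  set B := A ⊓ C with hB
  have h4 : 4 ≤ Nat.card B := H30.ConnectedCores.four_le_fixed hA.le_normalizer hA.elem hA.eight htS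
    (H39.mul_self_of_orderOf_eq_two ht)
  have hBel : Cfsg.IsElementaryAbelian 2 B :=
    ⟨⟨⟨fun x y => Subtype.ext (elem_comm hA.elem x.2.1 y.2.1)⟩⟩, fun a ha => hA.elem.2 a ha.1⟩
  obtain ⟨T, hT⟩ := ((elem_isPGroup hBel).comap_subtype (K := C)).exists_le_sylow
  have hT₀ : IsPGroup 2 ((T : Subgroup C).map C.subtype) := T.isPGroup'.map _
  obtain ⟨g, hg⟩ := H39.exists_conj_le_sylow hT₀ S
  set A' := A.comap (MulAut.conj g).toMonoidHom with hA'
  have hmemA' : ∀ {y : G}, y ∈ A' ↔ g * y * g⁻¹ ∈ A := Iff.rfl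
  set B' := A' ⊓ (T : Subgroup C).map C.subtype with hB'
  have hBB' : B ≤ B' := fun b hb =>
    have hbT : b ∈ (T : Subgroup C).map C.subtype := ⟨⟨b, hb.2⟩, hT hb, rfl⟩
    ⟨hA.closed b hb.1 g (hg b hbT), hbT⟩
  obtain ⟨⟨b, hb⟩, hb1⟩ : ∃ x : B, x ≠ 1 := by
    have : Nontrivial B := Finite.one_lt_card_iff_nontrivial.mp (by omega)
    exact exists_ne 1
  replace hb1 : b ≠ 1 := fun h => hb1 (Subtype.ext h)
  -- `g ∈ M`
  have hgM : g ∈ M := by
    refine (M.inv_mem_iff).mp (mem_of_conj_le hA hM fun a ha => hM.centralizer_le b hb.1 hb1 ?_)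
    rw [mem_centralizer_singleton_iff]
    have h1 := elem_comm hA.elem ha (hmemA'.mp (hBB' hb).1)
    calc g⁻¹ * a * g⁻¹⁻¹ * b = g⁻¹ * (a * (g * b * g⁻¹)) * g := by group
      _ = g⁻¹ * (g * b * g⁻¹ * a) * g := by rw [h1]
      _ = b * (g⁻¹ * a * g⁻¹⁻¹) := by group
  intro c hc
  obtain ⟨o, ho, n, hn, hnC, rfl⟩ := factor_of_strongly_closed
    (hm.centralizer_solvable (H39.ne_one_of_orderOf_eq_two ht)) T
    (B := B') (inf_le_right.trans (map_subtype_le _))
    (fun x hx => by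
      obtain ⟨y, hy, hyx⟩ := hx.2
      rwa [← Subtype.ext hyx])
    (fun x hx y hy => by
      have h1 := elem_comm hA.elem (hmemA'.mp hx.1) (hmemA'.mp hy.1)
      calc x * y = g⁻¹ * (g * x * g⁻¹ * (g * y * g⁻¹)) * g := by group
        _ = g⁻¹ * (g * y * g⁻¹ * (g * x * g⁻¹)) * g := by rw [h1]
        _ = y * x := by group)
    (fun x hx h hh => by
      have h1 : ((h * x * h⁻¹ : C) : G) ∈ (T : Subgroup C).map C.subtype := ⟨_, hh, rfl⟩
      refine ⟨?_, h1⟩
      have h2 := hg _ h1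
      refine hmemA'.mpr ?_
      have e : g * ((h * x * h⁻¹ : C) : G) * g⁻¹ =
          g * (h : G) * g⁻¹ * (g * (x : G) * g⁻¹) * (g * (h : G) * g⁻¹)⁻¹ := by
        rw [Subgroup.coe_mul, Subgroup.coe_mul, Subgroup.coe_inv]; group
      rw [e] at h2 ⊢
      exact hA.closed _ (hmemA'.mp hx.1) _ h2) hc
  refine mul_mem ?_ ?_
  · exact oddCore_map_le hBel h4 inf_le_right (fun b' hb' hb'1 => hM.centralizer_le b' hb'.1 hb'1) ho
  -- `n b n⁻¹ ∈ B'`
  have hb' := conj_mem_of_mem_normalizer hn (hBB' hb)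
  refine mem_of_conj_le hA hM fun a ha => ?_
  have h1 : n * a * n⁻¹ ∈ centralizer ({n * b * n⁻¹} : Set G) := by
    rw [mem_centralizer_singleton_iff]
    calc n * a * n⁻¹ * (n * b * n⁻¹) = n * (a * b) * n⁻¹ := by group
      _ = n * (b * a) * n⁻¹ := by rw [elem_comm hA.elem ha hb.1]
      _ = n * b * n⁻¹ * (n * a * n⁻¹) := by group
  -- `C(g⁻¹ a' g) = g⁻¹ C(a') g`
  have h2 : g * (n * a * n⁻¹) * g⁻¹ ∈ M := hM.centralizer_le _ (hmemA'.mp hb'.1)
    (fun h => hb1 (conj_eq_one_iff.mp (conj_eq_one_iff.mp h))) (by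
      rw [mem_centralizer_singleton_iff]
      have h3 := mem_centralizer_singleton_iff.mp h1
      calc g * (n * a * n⁻¹) * g⁻¹ * (g * (n * b * n⁻¹) * g⁻¹)
          = g * ((n * a * n⁻¹) * (n * b * n⁻¹)) * g⁻¹ := by group
        _ = g * ((n * b * n⁻¹) * (n * a * n⁻¹)) * g⁻¹ := by rw [h3]
        _ = _ := by group)
  simpa [mul_assoc] using M.mul_mem (M.mul_mem (M.inv_mem hgM) h2) hgM

theorem centralizer_le_of_involution (hm : Min p G) {t : G} (ht : orderOf t = 2) (htM : t ∈ M) :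
    centralizer ({t} : Set G) ≤ M := by
  obtain ⟨x, hx, hxS⟩ := H39.exists_conj_mem_le_sylow
    (IsPGroup.of_card (n := 1) (by rw [Nat.card_zpowers, ht, pow_one]) : IsPGroup 2 (zpowers t))
    (zpowers_le.mpr htM) S (sylow_le hA hM)
  intro c hc
  have h1 : x * c * x⁻¹ ∈ M := centralizer_le_of_mem_sylow hA hM hm
    (t := x * t * x⁻¹) (by rw [H39.orderOf_conj, ht]) (hxS t (mem_zpowers t)) (by
      rw [mem_centralizer_singleton_iff]
      calc x * c * x⁻¹ * (x * t * x⁻¹) = x * (c * t) * x⁻¹ := by group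
        _ = x * (t * c) * x⁻¹ := by rw [mem_centralizer_singleton_iff.mp hc]
        _ = _ := by group)
  simpa [mul_assoc] using M.mul_mem (M.mul_mem (M.inv_mem hx) h1) hx

theorem stronglyEmbedded (hm : Min p G) : Cfsg.IsStronglyEmbedded M := by
  obtain ⟨a₀, ha₀, ha₀1⟩ := hA.exists_ne_one
  refine ⟨hM.ne_top, even_iff_two_dvd.mpr ?_, fun g hg => Nat.not_even_iff_odd.mp fun hev => hg ?_⟩
  · rw [← elem_orderOf hA.elem ha₀ ha₀1]
    exact Subgroup.orderOf_dvd_natCard M (A_le hA hM ha₀)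
  obtain ⟨⟨s, hs⟩, hs2⟩ := exists_prime_orderOf_dvd_card' 2 (even_iff_two_dvd.mp hev)
  rw [Subgroup.orderOf_mk] at hs2
  obtain ⟨hsM, t, htM, hts⟩ := hs
  have ht2 : orderOf t = 2 := by
    rw [← H39.orderOf_conj g t]
    simpa [← hts] using hs2
  have hgt : g * t * g⁻¹ ∈ M := by simpa [← hts] using hsM
  have hgt2 : orderOf (g * t * g⁻¹) = 2 := by rw [H39.orderOf_conj, ht2]
  obtain ⟨x, hx, hxS⟩ := H39.exists_conj_mem_le_sylow
    (IsPGroup.of_card (n := 1) (by rw [Nat.card_zpowers, ht2, pow_one]) : IsPGroup 2 (zpowers t))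
    (zpowers_le.mpr htM) S (sylow_le hA hM)
  -- an involution of `A` central in `S`
  have hAn : (A.subgroupOf (S : Subgroup G)).Normal :=
    (normal_subgroupOf_iff_le_normalizer hA.le_S).mpr hA.le_normalizer
  obtain ⟨z, hzA, hzc, hz2⟩ := PGroups.exists_mem_center_orderOf_eq S.isPGroup'
    (A.subgroupOf (S : Subgroup G)) fun h => hA.ne_bot (by
      rw [← map_subgroupOf_eq_of_le hA.le_S, h, Subgroup.map_bot])
  have hzA : (z : G) ∈ A := hzA
  have hz2' : orderOf (z : G) = 2 := (Subgroup.orderOf_coe z).trans hz2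
  set z' := g * (x⁻¹ * z * x) * g⁻¹ with hz'
  have hxzt : Commute (x⁻¹ * z * x) t := by
    have h1 : (z : G) * (x * t * x⁻¹) = x * t * x⁻¹ * z :=
      (congrArg Subtype.val (mem_center_iff.mp hzc ⟨_, hxS t (mem_zpowers t)⟩)).symm
    calc x⁻¹ * z * x * t = x⁻¹ * (z * (x * t * x⁻¹)) * x := by group
      _ = x⁻¹ * (x * t * x⁻¹ * z) * x := by rw [h1]
      _ = t * (x⁻¹ * z * x) := by group
  have hz'M : z' ∈ M := centralizer_le_of_involution hA hM hm hgt2 hgt (by
    rw [mem_centralizer_singleton_iff, hz']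
    calc g * (x⁻¹ * z * x) * g⁻¹ * (g * t * g⁻¹) = g * (x⁻¹ * z * x * t) * g⁻¹ := by group
      _ = g * (t * (x⁻¹ * z * x)) * g⁻¹ := by rw [hxzt.eq]
      _ = _ := by group)
  have hz'2 : orderOf z' = 2 := by
    rw [hz', H39.orderOf_conj, show x⁻¹ * (z : G) * x = x⁻¹ * z * x⁻¹⁻¹ by group, H39.orderOf_conj, hz2']
  have h := mem_of_conj_le hA hM (g := g * x⁻¹) fun a ha => centralizer_le_of_involution hA hM hm hz'2 hz'M (by
    rw [mem_centralizer_singleton_iff, hz']
    calc g * x⁻¹ * a * (g * x⁻¹)⁻¹ * (g * (x⁻¹ * z * x) * g⁻¹)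
        = g * x⁻¹ * (a * z) * x * g⁻¹ := by group
      _ = g * x⁻¹ * (z * a) * x * g⁻¹ := by rw [elem_comm hA.elem ha hzA]
      _ = _ := by group)
  simpa using M.mul_mem h hx

theorem exists_not_mem : ∃ u : G, u ∉ M := by
  by_contra h
  push Not at h
  exact hM.ne_top (eq_top_iff.mpr fun x _ => h x)

theorem exists_conj_eq_involution (hm : Min p G) {a t : G} (ha : a ∈ A) (ha1 : a ≠ 1)
    (ht : orderOf t = 2) (htM : t ∈ M) : ∃ m ∈ M, m * a * m⁻¹ = t := by
  obtain ⟨u, hu⟩ := exists_not_mem hA hM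
  obtain ⟨d, hd, hd'⟩ := H39.se_transitive (stronglyEmbedded hA hM hm) hu
    (elem_orderOf hA.elem ha ha1) (A_le hA hM ha) ht htM
  exact ⟨d, hd.1, hd'⟩

theorem mem_A_of_involution (hm : Min p G) {t : G} (ht : orderOf t = 2)
    (htS : t ∈ (S : Subgroup G)) : t ∈ A := by
  obtain ⟨a, ha, ha1⟩ := hA.exists_ne_one
  obtain ⟨m, -, rfl⟩ := exists_conj_eq_involution hA hM hm ha ha1 ht (sylow_le hA hM htS)
  exact hA.closed a ha m htS

theorem le_of_four (hm : Min p G) {H B : Subgroup G} (hH : H ≠ ⊤)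
    (hB : Cfsg.IsElementaryAbelian 2 B) (h4 : 4 ≤ Nat.card B) (hBH : B ≤ H) (hBM : B ≤ M) : H ≤ M := by
  have hse := stronglyEmbedded hA hM hm
  have : Group.IsSolvable H := hm.solvable_of_ne_top H hH
  obtain ⟨b, hbB, hb1⟩ : ∃ b ∈ B, b ≠ 1 := by
    by_contra h
    push Not at h
    rw [(eq_bot_iff_forall B).mpr h, card_bot] at h4
    omega
  have hbo := elem_orderOf hB hbB hb1
  obtain ⟨T, hT⟩ := ((elem_isPGroup hB).comap_subtype (K := H)).exists_le_sylow
  set T₀ := (T : Subgroup H).map H.subtype with hT₀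
  have hbT : b ∈ T₀ := ⟨⟨b, hBH hbB⟩, hT hbB, rfl⟩
  have hTM : T₀ ≤ M := by
    by_contra h
    obtain ⟨x, hxT, hxM, hxN⟩ := H39.exists_mem_normalizer_not_mem (Q := T₀ ⊓ M)
      (T.isPGroup'.map H.subtype) (lt_of_le_of_ne inf_le_left fun he => h (he.ge.trans inf_le_right))
    exact hxM ⟨hxT, H39.se_mem_of_conj hse hbo (hBM hbB)
      (conj_mem_of_mem_normalizer hxN ⟨hbT, hBM hbB⟩).2⟩
  have hOM := oddCore_map_le hB h4 hBH fun c hc hc1 =>
    centralizer_le_of_involution hA hM hm (elem_orderOf hB hc hc1) (hBM hc)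
  -- `R = T ∩ O_{2',2}(H)`
  set O := Cfsg.oddCore H with hO
  set U := (Cfsg.pCore 2 (H ⧸ O)).comap (QuotientGroup.mk' O) with hU
  have hUn : U.Normal := inferInstance
  have hUT : U ≤ (T : Subgroup H) ⊔ O := by
    rw [sup_comm, ← QuotientGroup.comap_map_mk' O (T : Subgroup H), hU]
    have h1 := Cores.pCore_le_sylow (T.mapSurjective (QuotientGroup.mk'_surjective O))
    rw [Sylow.coe_mapSurjective] at h1
    exact Subgroup.comap_mono h1
  obtain ⟨r, hrU, hrT, hr2⟩ : ∃ r : H, r ∈ U ∧ r ∈ (T : Subgroup H) ∧ orderOf (r : G) = 2 := by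
    have hne : (T : Subgroup H) ⊓ U ≠ ⊥ := by
      intro h
      have hUO : U ≤ O := fun y hy => by
        obtain ⟨t, ht, o, ho, rfl⟩ := mem_sup_of_normal_right.mp (hUT hy)
        have ht1 : t ∈ U := by
          have := U.mul_mem hy (U.inv_mem (show o ∈ U from Subgroup.mem_comap.mpr (by
            rw [show QuotientGroup.mk' O o = 1 from (QuotientGroup.eq_one_iff o).mpr ho]
            exact one_mem _)))
          rwa [mul_inv_cancel_right] at this
        rw [show t = 1 from Subgroup.mem_bot.mp (h ▸ ⟨ht, ht1⟩), one_mul]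
        exact ho
      have hF : Cfsg.pCore 2 (H ⧸ O) = ⊥ := by
        rw [← map_comap_eq_self_of_surjective (QuotientGroup.mk'_surjective O) (Cfsg.pCore 2 (H ⧸ O)),
          ← hU, Subgroup.map_eq_bot_iff, QuotientGroup.ker_mk']
        exact hUO
      have h1 := Cores.centralizer_pCore_le (p := 2) (G := H ⧸ O) Cores.isPSolvable_of_isSolvable
        Cores.pPrimeCore_quotient_pPrimeCore
      rw [hF, coe_bot, centralizer_eq_top_iff_subset.mpr (by simp)] at h1
      have h2 : (QuotientGroup.mk' O) ⟨b, hBH hbB⟩ = 1 := Subgroup.mem_bot.mp (h1 (mem_top _))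
      have h3 := Subgroup.orderOf_dvd_natCard O ((QuotientGroup.eq_one_iff _).mp h2)
      rw [Subgroup.orderOf_mk, hbo] at h3
      exact Nat.not_even_iff_odd.mpr Cores.odd_card_oddCore (even_iff_two_dvd.mpr h3)
    obtain ⟨⟨r, hr⟩, hr2⟩ := exists_prime_orderOf_dvd_card' (G := ↥((T : Subgroup H) ⊓ U)) 2
      (PGroups.dvd_card_of_ne_bot (G := T) T.isPGroup' (H := ((T : Subgroup H) ⊓ U).subgroupOf T)
        (fun h => hne (by rw [← map_subgroupOf_eq_of_le (inf_le_left : (T : Subgroup H) ⊓ U ≤ T), h,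
          Subgroup.map_bot])) |>.trans (dvd_of_eq (Nat.card_congr
            (subgroupOfEquivOfLe inf_le_left).toEquiv)))
    exact ⟨r, hr.2, hr.1, (Subgroup.orderOf_coe r).trans ((Subgroup.orderOf_mk r hr).symm.trans hr2)⟩
  intro h hh
  obtain ⟨o, ho, hoT⟩ := exists_mem_conj_le T O
    ((T.isPGroup'.to_le (inf_le_left : (T : Subgroup H) ⊓ U ≤ T)).map (MulAut.conj ⟨h, hh⟩).toMonoidHom)
    (by
      rintro _ ⟨y, hy, rfl⟩
      exact hUT (hUn.conj_mem y hy.2 ⟨h, hh⟩))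
  have h1 := hoT _ (mem_map_of_mem _ (show r ∈ (T : Subgroup H) ⊓ U from ⟨hrT, hrU⟩))
  simp only [MulEquiv.coe_toMonoidHom, MulAut.conj_apply] at h1
  have h2 : (o : G) * h ∈ M := H39.se_mem_of_conj hse hr2 (hTM ⟨r, hrT, rfl⟩) (hTM ⟨_, h1, by
    simp [mul_assoc]⟩)
  simpa using M.mul_mem (M.inv_mem (hOM ⟨o, ho, rfl⟩)) h2

/-- a `p'`-element of odd prime power order of `M` centralises a Sylow 2-subgroup of `M` -/
theorem exists_conj_commute (hm : Min p G) [hp : Fact p.Prime] {r k : ℕ} (hr : r.Prime) (hr2 : r ≠ 2)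
    (hrp : r ≠ p) {y : G} (hyM : y ∈ M) (hy : orderOf y = r ^ k) :
    ∃ m ∈ M, ∀ s ∈ (S : Subgroup G), Commute y (m * s * m⁻¹) := by
  have : Group.IsSolvable M := hm.solvable_of_ne_top M hM.ne_top
  set π : Set ℕ := {q | q ≠ p} with hπ
  obtain ⟨H, hH, hyH⟩ := (Hall.hallDom_of_isSolvable π M).exists_le
    (U := zpowers (⟨y, hyM⟩ : M)) (by
      rw [Nat.card_zpowers, Subgroup.orderOf_mk, hy]
      exact (Hall.IsPiNumber.prime hr hrp).pow k)
  have hHp : (Nat.card H).Coprime p := by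
    rw [Nat.coprime_comm, hp.out.coprime_iff_not_dvd]
    exact fun hd => (Hall.IsPiHall.isPiNumber_card hH) p hp.out hd rfl
  have hnil := hm.hyp.subgroup M H hHp
  obtain ⟨T⟩ : Nonempty (Sylow 2 H) := inferInstance
  have hidx : ¬ 2 ∣ ((T : Subgroup H).map H.subtype).index := by
    rw [Subgroup.index_map_subtype]
    intro hd
    rcases Nat.prime_two.dvd_mul.mp hd with h | h
    · exact T.not_dvd_index h
    · have h1 := (Hall.IsPiHall.isPiNumber_index hH) 2 Nat.prime_two h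
      have h2 : 2 = p := by
        by_contra h2
        exact h1 h2
      have := hm.three_lt
      omega
  obtain ⟨m, hm'⟩ := MulAction.exists_smul_eq M (S.subtype (sylow_le hA hM))
    ((T.isPGroup'.map H.subtype).toSylow hidx)
  refine ⟨m, m.2, fun s hs => ?_⟩
  have h1 : m * ⟨s, sylow_le hA hM hs⟩ * m⁻¹ ∈ (T : Subgroup H).map H.subtype := by
    have h2 : m * ⟨s, sylow_le hA hM hs⟩ * m⁻¹ ∈
        ((m • S.subtype (sylow_le hA hM) : Sylow 2 M) : Subgroup M) := by
      rw [Sylow.coe_subgroup_smul]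
      exact ⟨_, hs, rfl⟩
    rwa [hm'] at h2
  obtain ⟨w, hw, hwe⟩ := h1
  obtain ⟨j, hj⟩ := isPGroup_iff_orderOf_dvd_pow.mp T.isPGroup' ⟨w, hw⟩
  rw [Subgroup.orderOf_mk] at hj
  have hc := commute_of_mem hnil (x := (⟨y, hyM⟩ : M)) (y := (w : M)) (hyH (mem_zpowers _)) w.2 (by
    rw [Subgroup.orderOf_mk, hy, Subgroup.orderOf_coe]
    exact Nat.Coprime.coprime_dvd_right hj (((Nat.coprime_primes hr Nat.prime_two).mpr hr2).pow k j))
  have h3 := hc.map M.subtype
  have hwe' : ((w : M) : G) = m * s * (m : G)⁻¹ := congrArg Subtype.val hwe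
  change Commute y ((w : M) : G) at h3
  rw [hwe'] at h3
  exact h3

theorem centralizer_le_of_commute (hm : Min p G) {y m : G} (hy : y ≠ 1) (hmM : m ∈ M)
    (hc : ∀ a ∈ A, Commute y (m * a * m⁻¹)) : centralizer ({y} : Set G) ≤ M := by
  refine le_of_four hA hM hm (hm.centralizer_ne_top hy) (elem_map hA.elem m) ?_ ?_ ?_
  · rw [card_map_of_injective (MulAut.conj m).injective]
    exact le_trans (by norm_num) hA.eight
  · rintro _ ⟨a, ha, rfl⟩
    exact mem_centralizer_singleton_iff.mpr (hc a ha).symm.eq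
  · rintro _ ⟨a, ha, rfl⟩
    exact M.mul_mem (M.mul_mem hmM (A_le hA hM ha)) (M.inv_mem hmM)

/-- `M ∩ M^u` is a `p`-group for an involution `u` outside `M` -/
theorem exists_card_inf_eq (hm : Min p G) [hp : Fact p.Prime] {u : G} (hu : orderOf u = 2) (huM : u ∉ M) :
    ∃ k : ℕ, Nat.card ↥(M ⊓ M.map (MulAut.conj u).toMonoidHom) = p ^ k := by
  set D := M ⊓ M.map (MulAut.conj u).toMonoidHom with hD
  have hodd : Odd (Nat.card D) := (stronglyEmbedded hA hM hm).2.2 u huM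
  refine ⟨_, Nat.eq_prime_pow_of_unique_prime_dvd Nat.card_pos.ne' fun {r} hr hrD => ?_⟩
  by_contra hrp
  have hr2 : r ≠ 2 := fun h => Nat.not_even_iff_odd.mpr hodd (even_iff_two_dvd.mpr (h ▸ hrD))
  have : Fact r.Prime := ⟨hr⟩
  have huu := H39.mul_self_of_orderOf_eq_two hu
  have hnorm : zpowers u ≤ normalizer (D : Set G) := by
    rw [zpowers_le]
    refine H39.mem_normalizer_of_conj_mem fun d hd => ⟨?_, ⟨d, hd.1, rfl⟩⟩
    obtain ⟨e, he, rfl⟩ := hd.2
    have : u * (MulAut.conj u).toMonoidHom e * u⁻¹ = e := by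
      show u * (u * e * u⁻¹) * u⁻¹ = e
      rw [show u * (u * e * u⁻¹) * u⁻¹ = u * u * e * (u * u)⁻¹ by group, huu]
      group
    rw [this]
    exact he
  have hcop : (Nat.card (zpowers u)).Coprime (Nat.card D) := by
    rw [Nat.card_zpowers, hu]
    exact Nat.coprime_two_left.mpr hodd
  obtain ⟨Q, hQ⟩ := Coprime.exists_invariant_sylow hnorm hcop (Or.inl inferInstance) r
  have hQne : (Q : Subgroup D) ≠ ⊥ := Q.ne_bot_of_dvd_card hrD
  obtain ⟨⟨y, hy⟩, hy1⟩ := ne_bot_iff_exists_ne_one.mp hQne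
  replace hy1 : (y : G) ≠ 1 := fun h => hy1 (Subtype.ext (Subtype.ext h))
  have hyQ : (y : G) ∈ (Q : Subgroup D).map D.subtype := ⟨y, hy, rfl⟩
  obtain ⟨k, hk⟩ := isPGroup_iff_orderOf_dvd_pow.mp (Q.isPGroup'.map D.subtype) ⟨y, hyQ⟩
  rw [Subgroup.orderOf_mk] at hk
  obtain ⟨j, -, hj⟩ := (Nat.dvd_prime_pow hr).mp hk
  obtain ⟨n, hn⟩ := IsPGroup.iff_card.mp (Q.isPGroup'.map D.subtype)
  have hp2 : p ≠ 2 := by have := hm.three_lt; omega
  have hc : Commute (y : G) u := hm.hyp.commute hQ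
    (by rw [hn]; exact ((Nat.coprime_primes hr hp.out).mpr hrp).pow_left n)
    (by rw [Nat.card_zpowers, hu]; exact (Nat.coprime_primes Nat.prime_two hp.out).mpr (Ne.symm hp2))
    hyQ (mem_zpowers u)
    (by rw [hj, hu]; exact ((Nat.coprime_primes hr Nat.prime_two).mpr hr2).pow_left j)
  obtain ⟨m, hmM, hmc⟩ := exists_conj_commute hA hM hm hr hr2 hrp y.2.1 hj
  exact huM (centralizer_le_of_commute hA hM hm hy1 hmM (fun a ha => hmc a (hA.le_S ha))
    (mem_centralizer_singleton_iff.mpr hc.symm.eq))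

end Over

end Cfsg.Agent.H36.NilPPrime
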