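import Cfsg.Agent.H36.NilPPrime.Basic
import Cfsg.Agent.H39.Basic
import Cfsg.Agent.S2796
import Cfsg.Agent.S0215
import Cfsg.Agent.S0205
import Cfsg.Agent.PGroups.Basic
import Cfsg.Agent.Coprime.Generation

/-!
A minimal counterexample has an elementary abelian strongly closed subgroup of order at least eight.
-/

set_option autoImplicit false

namespace Cfsg.Agent.H36.NilPPrime

open Subgroup

universe u

variable {p : ℕ} {G : Type u} [Group G] [Finite G]

local instance : Fact (Nat.Prime 2) := ⟨Nat.prime_two⟩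

theorem Min.even (hm : Min p G) : Even (Nat.card G) := by
  by_contra h
  exact hm.not_solvable (S0205.result (Nat.not_even_iff_odd.mp h))

theorem Min.center_eq_bot (hm : Min p G) : center G = ⊥ := by
  have := hm.simple
  refine (IsSimpleGroup.eq_bot_or_eq_top_of_normal (center G) inferInstance).resolve_right fun h => ?_
  exact hm.not_solvable (Group.isSolvable_of_comm fun a b =>
    (mem_center_iff.mp (h.ge (mem_top b)) a))

theorem Min.centralizer_ne_top (hm : Min p G) {x : G} (hx : x ≠ 1) :
    centralizer ({x} : Set G) ≠ ⊤ := fun h => hx (by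
  rw [← Subgroup.mem_bot, ← hm.center_eq_bot, mem_center_iff]
  exact fun g => mem_centralizer_singleton_iff.mp (h.ge (mem_top g)))

theorem Min.normalizer_ne_top (hm : Min p G) {H : Subgroup G} (h1 : H ≠ ⊥) (h2 : H ≠ ⊤) :
    normalizer (H : Set G) ≠ ⊤ := fun h => by
  have := hm.simple
  rcases IsSimpleGroup.eq_bot_or_eq_top_of_normal H (normalizer_eq_top_iff.mp h) with h' | h'
  · exact h1 h'
  · exact h2 h'

theorem Min.ne_top_of_solvable (hm : Min p G) {H : Subgroup G} (h : Group.IsSolvable H) : H ≠ ⊤ := by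
  rintro rfl
  exact hm.not_solvable (Group.isSolvable_of_surjective (f := (Subgroup.topEquiv (G := G)).toMonoidHom)
    (Subgroup.topEquiv (G := G)).surjective)

theorem Min.ne_top_of_isPGroup (hm : Min p G) {q : ℕ} [Fact q.Prime] {H : Subgroup G}
    (h : IsPGroup q H) : H ≠ ⊤ :=
  have := h.isNilpotent
  hm.ne_top_of_solvable inferInstance

theorem Min.centralizer_solvable (hm : Min p G) {x : G} (hx : x ≠ 1) :
    Group.IsSolvable (centralizer ({x} : Set G)) :=
  hm.solvable_of_ne_top _ (hm.centralizer_ne_top hx)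

/-- `A` is elementary abelian of order at least eight, strongly closed in the Sylow subgroup `S` -/
structure Closed8 (S : Sylow 2 G) (A : Subgroup G) : Prop where
  le_S : A ≤ (S : Subgroup G)
  elem : Cfsg.IsElementaryAbelian 2 A
  eight : 8 ≤ Nat.card A
  closed : ∀ a ∈ A, ∀ g : G, g * a * g⁻¹ ∈ (S : Subgroup G) → g * a * g⁻¹ ∈ A

/-- a centraliser condition for `IsCompositionKGroupWith` that holds vacuously -/
theorem Min.sections (hm : Min p G) (K R : Subgroup G) [hR : (R.subgroupOf K).Normal]
    (hc : Subgroup.centralizer (Cfsg.pCore 2 (K ⧸ R.subgroupOf K) : Set (K ⧸ R.subgroupOf K)) ≤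
      Cfsg.pCore 2 (K ⧸ R.subgroupOf K)) :
    Cfsg.IsCompositionKGroupWith Cfsg.IsSuzukiOrPSL2OddPowerThree (K ⧸ R.subgroupOf K) := by
  have hQ : Group.IsSolvable (K ⧸ R.subgroupOf K) := by
    by_contra hQ
    have hK : K = ⊤ := by
      by_contra hK
      have := hm.solvable_of_ne_top K hK
      exact hQ inferInstance
    subst hK
    have : Nontrivial ((⊤ : Subgroup G) ⧸ R.subgroupOf ⊤) := by
      by_contra h
      rw [not_nontrivial_iff_subsingleton] at h
      exact hQ inferInstance
    have := hm.simple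
    have hs : IsSimpleGroup ((⊤ : Subgroup G) ⧸ R.subgroupOf ⊤) :=
      IsSimpleGroup.isSimpleGroup_of_surjective
        ((QuotientGroup.mk' (R.subgroupOf ⊤)).comp (Subgroup.topEquiv (G := G)).symm.toMonoidHom)
        ((QuotientGroup.mk'_surjective _).comp (Subgroup.topEquiv (G := G)).symm.surjective)
    rcases IsSimpleGroup.eq_bot_or_eq_top_of_normal _
      (inferInstance : (Cfsg.pCore 2 ((⊤ : Subgroup G) ⧸ R.subgroupOf ⊤)).Normal) with h | h
    · rw [h, coe_bot, centralizer_eq_top_iff_subset.mpr (by simp)] at hc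
      exact absurd (le_bot_iff.mp hc) top_ne_bot
    · have := (Cores.pCore_eq_top_iff.mp h).isNilpotent
      exact hQ inferInstance
  intro H _ N _ hs hn
  exact absurd ⟨⟨IsSimpleGroup.comm_iff_isSolvable.mpr inferInstance⟩⟩ hn

theorem Min.exists_closed8 (hm : Min p G) [hp : Fact p.Prime] (S : Sylow 2 G) :
    ∃ A : Subgroup G, Closed8 S A := by
  classical
  set N := normalizer (Cfsg.thompsonSubgroupOf 2 (S : Subgroup G) : Set G) with hN
  set A := (Subgroup.normalClosure (((Cfsg.omegaOne 2 ((S : Subgroup G) ⊓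
    Subgroup.centralizer ((S : Subgroup G) : Set G))).subgroupOf N : Subgroup ↥N) : Set ↥N)).map N.subtype
    with hA
  obtain ⟨hAS, hel, hsc, T, hAT, hfus⟩ := S2796.result (hm.hyp.not_involves hm.three_lt)
    (fun K R hR hc => hm.sections K R hc) S N rfl A rfl
  refine ⟨A, hAS, hel, ?_, hsc.2⟩
  by_contra hlt
  -- a central involution of `S` in `A`
  have hS : (S : Subgroup G) ≠ ⊥ := S.ne_bot_of_dvd_card hm.even.two_dvd
  have : Nontrivial (S : Subgroup G) := (Subgroup.nontrivial_iff_ne_bot _).mpr hS
  obtain ⟨z, -, hzc, hz⟩ := PGroups.exists_mem_center_orderOf_eq S.isPGroup' ⊤ top_ne_bot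
  have hzS : ∀ s ∈ (S : Subgroup G), s * (z : G) = z * s := fun s hs =>
    congrArg Subtype.val (mem_center_iff.mp hzc ⟨s, hs⟩)
  have hz2 : orderOf (z : G) = 2 := (Subgroup.orderOf_coe z).trans hz
  have hzA : (z : G) ∈ A := by
    have hzN : (z : G) ∈ N := by
      refine centralizer_le_normalizer _ (mem_centralizer_iff.mpr fun w hw => ?_)
      exact hzS w (Subgroup.map_subtype_le _ hw)
    refine ⟨⟨z, hzN⟩, subset_normalClosure ?_, rfl⟩
    exact subset_closure ⟨⟨z.2, mem_centralizer_iff.mpr hzS⟩, orderOf_dvd_iff_pow_eq_one.mp (dvd_of_eq hz2)⟩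
  have hSA : (S : Subgroup G) ≤ normalizer (A : Set G) := fun s hs =>
    H39.mem_normalizer_of_conj_mem fun a ha => hsc.2 a ha s ((S : Subgroup G).mul_mem
      ((S : Subgroup G).mul_mem hs (hAS ha)) ((S : Subgroup G).inv_mem hs))
  -- `N(A)` centralises `z`
  have hNz : normalizer (A : Set G) ≤ centralizer ({(z : G)} : Set G) := by
    refine Coprime.le_of_exists_sylow_le fun q hq => ?_
    have : Fact q.Prime := ⟨hq⟩
    by_cases hq2 : q = 2
    · subst hq2
      refine ⟨S.subtype hSA, ?_⟩
      rintro _ ⟨x, hx, rfl⟩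
      exact mem_centralizer_singleton_iff.mpr (hzS x hx)
    · refine ⟨default, ?_⟩
      rintro _ ⟨y, hy, rfl⟩
      have hyq := (default : Sylow q (normalizer (A : Set G))).isPGroup' ⟨y, hy⟩
      obtain ⟨k, hk⟩ := hyq
      have hk' : (y : G) ^ q ^ k = 1 := by simpa using congrArg (fun w => ((w.1 : normalizer (A : Set G)) : G)) hk
      have hord := orderOf_dvd_of_pow_eq_one hk'
      rw [mem_centralizer_singleton_iff]
      by_cases hqp : q = p
      · -- the permutation induced on the at most four elements of `A` has order prime to `24`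
        let τ : Equiv.Perm A := MulAut.toPerm _ (Subgroup.normalizerMonoidHom A y)
        have hτ1 : τ ^ q ^ k = 1 := by
          have h1 : y ^ q ^ k = 1 := Subtype.ext (by rw [Subgroup.coe_pow, hk']; rfl)
          show MulAut.toPerm _ (Subgroup.normalizerMonoidHom A y) ^ q ^ k = 1
          rw [← map_pow, ← map_pow, h1, map_one, map_one]
        have hτ2 : τ ^ Nat.factorial (Nat.card A) = 1 := by
          rw [← Nat.card_perm]; exact pow_card_eq_one'
        have hτ : τ = 1 := by
          have h3 := pow_gcd_eq_one.mpr ⟨hτ1, hτ2⟩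
          rwa [Nat.Coprime.gcd_eq_one ((hq.coprime_factorial_of_lt (by
            have := hm.three_lt
            have h8 : Nat.card A < 8 := Nat.lt_of_not_le hlt
            obtain ⟨n, hn⟩ := IsPGroup.iff_card.mp (S.isPGroup'.to_le hAS)
            have : n ≤ 2 := by
              by_contra h
              have := Nat.pow_le_pow_right (by norm_num : 2 > 0) (show 3 ≤ n by omega)
              omega
            have h4 : Nat.card A ≤ 4 := by
              rw [hn]
              calc 2 ^ n ≤ 2 ^ 2 := Nat.pow_le_pow_right (by norm_num) this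
                _ = 4 := rfl
            subst hqp
            rcases Nat.lt_or_ge 4 q with h | h
            · omega
            · exfalso
              obtain rfl : q = 4 := by omega
              exact absurd hq (by decide))).pow_left k), pow_one] at h3
        have h4 : (y : G) * z * (y : G)⁻¹ = z :=
          congrArg Subtype.val (show τ ⟨z, hzA⟩ = ⟨z, hzA⟩ by rw [hτ]; rfl)
        exact mul_inv_eq_iff_eq_mul.mp h4
      · have hA2 := S.isPGroup'.to_le hAS
        obtain ⟨n, hn⟩ := IsPGroup.iff_card.mp hA2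
        obtain ⟨j, -, hj⟩ := (Nat.dvd_prime_pow hq).mp hord
        have hp2 : p ≠ 2 := by have := hm.three_lt; omega
        refine (hm.hyp.commute (N := A) (K := zpowers (y : G)) (zpowers_le.mpr y.2) ?_ ?_ hzA
          (mem_zpowers _) ?_).symm
        · rw [hn]; exact ((Nat.coprime_primes Nat.prime_two hp.out).mpr (Ne.symm hp2)).pow_left n
        · rw [Nat.card_zpowers, hj]; exact ((Nat.coprime_primes hq hp.out).mpr hqp).pow_left j
        · rw [hz2, hj]; exact ((Nat.coprime_primes Nat.prime_two hq).mpr (Ne.symm hq2)).pow_right j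
  -- so `z` is isolated
  have hiso : ∀ g : G, g * (z : G) * g⁻¹ ∈ (S : Subgroup G) → g * (z : G) * g⁻¹ = z := by
    intro g hg
    have hgA := hsc.2 _ hzA g hg
    obtain ⟨x, hx, hxz⟩ := (hfus {(z : G)} (Set.singleton_subset_iff.mpr (hAT hzA))).2 g (by
      rw [Set.image_singleton]; exact Set.singleton_subset_iff.mpr (hAT hgA))
    rw [hxz _ rfl, mem_centralizer_singleton_iff.mp (hNz hx), mul_inv_cancel_right]
  obtain ⟨M, hMn, hModd, hMc⟩ := S0215.result S (z : G) hz2 z.2 hiso
  have := hm.simple
  rcases IsSimpleGroup.eq_bot_or_eq_top_of_normal M hMn with h | h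
  · refine hm.centralizer_ne_top (H39.ne_one_of_orderOf_eq_two hz2) (eq_top_iff.mpr fun g _ => ?_)
    have h1 := hMc g
    rw [h, Subgroup.mem_bot, mul_inv_eq_one, mul_inv_eq_iff_eq_mul] at h1
    exact mem_centralizer_singleton_iff.mpr h1.symm
  · rw [h, card_top] at hModd
    exact Nat.not_even_iff_odd.mpr hModd hm.even

end Cfsg.Agent.H36.NilPPrime
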